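import Cfsg.Agent.Lib.CyclicTimesZ.Count

/-!
Coordinates in the case in which the involutions of the two point stabilisers fix two points only.
-/

open MulAction Subgroup

set_option linter.style.haveILetI false
set_option linter.unusedSectionVars false

namespace CfsgLib.CyclicTimesZ

/-- Coordinates of a projective line. -/
structure Coord (G Ω : Type*) [Group G] [MulAction G Ω] (a : Ω) (z : G) (p : ℕ) (pt : ZMod p → Ω) : Prop where
  prime : p.Prime
  card : Nat.card Ω = p + 1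
  inj : Function.Injective pt
  ne : ∀ y, pt y ≠ a
  surj : ∀ x, x ≠ a → ∃ y, pt y = x
  zero : pt 0 = z • a
  trans : ∀ t, ∃ g : G, g • a = a ∧ ∀ y, g • pt y = pt (y + t)
  dil : ∀ l : ZMod p, l ≠ 0 → ∃ g : G, g • a = a ∧ ∀ y, g • pt y = pt (l * y)
  inv : ∃ c : ZMod p, c ≠ 0 ∧ ∀ y, y ≠ 0 → z • pt y = pt (c * y⁻¹)
  sharp : ∀ (g : G) (x y w : Ω), x ≠ y → y ≠ w → x ≠ w → g • x = x → g • y = y → g • w = w → g = 1

/-- The involutions with fixed points fix exactly two points: the degree is a prime plus one. -/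
theorem CPair.coord_of_two {G Ω : Type*} [Group G] [Finite G] [MulAction G Ω] [Finite Ω] {a : Ω}
    {C A : Subgroup G} (h : CPair G Ω a C A) {z : G} (hz : z ∈ A) (hz2 : z * z = 1) (hz1 : z ≠ 1)
    {u : G} (hu : u * u = 1) (hu1 : u ≠ 1) (hua : u • a = a) (hub : u • (z • a) = z • a)
    (hf : Nat.card {x : Ω // u • x = x} = 2) : ∃ p, ∃ pt : ZMod p → Ω, Coord G Ω a z p pt := by
  classical
  have hcount' := h.count hz hz2 hz1 hu hu1 hua hub
  set b := z • a with hbdef
  obtain ⟨ψ, hψ, hcount, hge', hinv, -⟩ := hcount'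
  rw [hf] at hcount
  have hb : b ≠ a := h.z_fpf hz hz1 a
  have hzi : z⁻¹ = z := inv_eq_of_mul_eq_one_right hz2
  have hzb : z • b = a := by rw [hbdef, ← mul_smul, hz2, one_smul]
  haveI := h.C_cyc
  have hC := h.card_C
  have h4 := h.four
  -- elements fixing a third point
  have third : ∀ {d : G} {c : G}, d • a = a → d • b = b → c ∈ C → c ≠ 1 → d * c * d⁻¹ = c →
      Commute z d := by
    intro d c hda hdb hc hc1 hdc
    refine h.swap_comm hb rfl hzb hda hdb (x := c • b) ?_ ?_ ?_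
    · exact fun e => hb (smul_left_cancel c (e.trans (h.C_fix c hc).symm))
    · exact fun e => hc1 (h.C_free c hc b hb e)
    · rw [← mul_smul, ← mul_inv_eq_iff_eq_mul.1 hdc |>.symm, mul_smul, hdb]
  -- the degree
  have hp : (Nat.card Ω - 1).Prime := by
    obtain ⟨r, hr, hrd⟩ := Nat.exists_prime_and_dvd (show Nat.card Ω - 1 ≠ 1 by omega)
    haveI := Fact.mk hr
    obtain ⟨⟨r₀, hr₀⟩, hr₀o⟩ := exists_prime_orderOf_dvd_card' (G := C) r
      (by rw [show Nat.card C = Nat.card Ω - 1 by omega]; exact hrd)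
    have hr₀o' : orderOf r₀ = r := by rw [← hr₀o, ← Subgroup.orderOf_coe]
    have hr₀1 : r₀ ≠ 1 := fun e => hr.ne_one (by rw [← hr₀o', e, orderOf_one])
    have hsel : ∀ m : ψ.range, ∃ d : ↥(stabilizer G a ⊓ stabilizer G b), ψ d = m.1 := fun m => m.2
    choose sel hsel using hsel
    have hmem : ∀ d : ↥(stabilizer G a ⊓ stabilizer G b),
        (d : G) * r₀ * (d : G)⁻¹ ∈ zpowers r₀ ∧ (d : G) * r₀ * (d : G)⁻¹ ≠ 1 := by
      intro d
      refine ⟨mem_zpowers_of_orderOf_eq h.C_cyc (h.C_norm _ d.2.1 _ hr₀) hr₀ ?_,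
        fun e => hr₀1 (conj_eq_one_iff.1 e)⟩
      simpa using orderOf_injective (MulAut.conj (d : G)).toMonoidHom (MulAut.conj (d : G)).injective r₀
    have hle : Nat.card ψ.range ≤ r - 1 := by
      let F : ψ.range → {w : zpowers r₀ // w ≠ 1} := fun m =>
        ⟨⟨(sel m : G) * r₀ * (sel m : G)⁻¹, (hmem _).1⟩, fun e => (hmem (sel m)).2 (congrArg Subtype.val e)⟩
      have hinj : Function.Injective F := by
        intro m m' e
        have e' : (sel m : G) * r₀ * (sel m : G)⁻¹ = (sel m' : G) * r₀ * (sel m' : G)⁻¹ :=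
          Subtype.ext_iff.1 (Subtype.ext_iff.1 e)
        set k : ↥(stabilizer G a ⊓ stabilizer G b) := (sel m')⁻¹ * sel m with hk
        have hk1 : (k : G) * r₀ * (k : G)⁻¹ = r₀ := by
          rw [hk, Subgroup.coe_mul, Subgroup.coe_inv, mul_inv_rev, inv_inv,
            show (sel m' : G)⁻¹ * (sel m : G) * r₀ * ((sel m : G)⁻¹ * (sel m' : G)) =
              (sel m' : G)⁻¹ * ((sel m : G) * r₀ * (sel m : G)⁻¹) * (sel m' : G) by group, e']
          group
        have hψk : ψ k = 1 := by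
          have hc := third k.2.1 k.2.2 hr₀ hr₀1 hk1
          rw [hψ, mul_assoc z, hc.symm.inv_left.eq, ← mul_assoc z, hz2, one_mul, mul_inv_cancel]
        rw [hk, map_mul, map_inv, inv_mul_eq_one] at hψk
        exact Subtype.ext (by rw [← hsel m, ← hsel m', hψk])
      have hc := Nat.card_le_card_of_injective F hinj
      have := Fintype.ofFinite (zpowers r₀)
      rwa [Nat.card_eq_fintype_card (α := {w : zpowers r₀ // w ≠ 1}), Fintype.card_subtype_compl,
        Fintype.card_subtype_eq, ← Nat.card_eq_fintype_card, Nat.card_zpowers, hr₀o'] at hc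
    obtain ⟨s, hs⟩ := hrd
    rcases Nat.lt_or_ge s 2 with hs2 | hs2
    · rcases (show s = 0 ∨ s = 1 by omega) with rfl | rfl
      · omega
      · rwa [hs, mul_one]
    · have := Nat.mul_le_mul_left r hs2
      omega
  obtain ⟨p, hpdef⟩ : ∃ p, p = Nat.card Ω - 1 := ⟨_, rfl⟩
  rw [← hpdef] at hp
  haveI := Fact.mk hp
  obtain ⟨γ, hγC, hγ⟩ : ∃ γ ∈ C, orderOf γ = p := by
    obtain ⟨g, hg⟩ := exists_prime_orderOf_dvd_card' (G := C) p (by rw [show Nat.card C = p by omega])
    exact ⟨g, g.2, by rw [← hg, Subgroup.orderOf_coe]⟩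
  have hγgen : ∀ c ∈ C, c ∈ zpowers γ := by
    intro c hc
    have he : zpowers γ = C :=
      Subgroup.eq_of_le_of_card_ge (zpowers_le.2 hγC) (by rw [Nat.card_zpowers, hγ]; omega)
    rw [he]; exact hc
  let T : ZMod p → G := fun y => γ ^ y.val
  have hT : ∀ m : ℕ, T (m : ZMod p) = γ ^ m := fun m => by
    show γ ^ (m : ZMod p).val = γ ^ m
    rw [ZMod.val_natCast, ← hγ, pow_mod_orderOf]
  have hTinj : Function.Injective T := fun x y e => by
    refine ZMod.val_injective p (pow_injOn_Iio_orderOf ?_ ?_ e)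
    · rw [Set.mem_Iio, hγ]; exact ZMod.val_lt x
    · rw [Set.mem_Iio, hγ]; exact ZMod.val_lt y
  have hTC : ∀ y, T y ∈ C := fun y => C.pow_mem hγC _
  have hTadd : ∀ x y, T (x + y) = T x * T y := fun x y => by
    show T (x + y) = γ ^ x.val * γ ^ y.val
    rw [← pow_add, ← hT, Nat.cast_add, ZMod.natCast_zmod_val, ZMod.natCast_zmod_val]
  have hTmul : ∀ x y : ZMod p, T (x * y) = T x ^ y.val := fun x y => by
    show T (x * y) = (γ ^ x.val) ^ y.val
    rw [← pow_mul, ← hT, Nat.cast_mul, ZMod.natCast_zmod_val, ZMod.natCast_zmod_val]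
  have hTsurj : ∀ c ∈ C, ∃ y, T y = c := fun c hc => by
    obtain ⟨m, hm⟩ := (mem_zpowers_iff_mem_range_orderOf).1 (hγgen c hc) |> Finset.mem_image.1
    exact ⟨(m : ZMod p), by rw [hT]; exact hm.2⟩
  have hT0 : T 0 = 1 := by show γ ^ (0 : ZMod p).val = 1; rw [ZMod.val_zero, pow_zero]
  have hT1 : T 1 = γ := by show γ ^ (1 : ZMod p).val = γ; rw [ZMod.val_one, pow_one]
  let pt : ZMod p → Ω := fun y => T y • b
  have hpt_inj : Function.Injective pt := fun x y e => hTinj (inv_mul_eq_one.1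
    (h.C_free _ (C.mul_mem (C.inv_mem (hTC y)) (hTC x)) b hb
      (by rw [mul_smul, show T x • b = T y • b from e, inv_smul_smul]))).symm
  have hne : ∀ y, pt y ≠ a := fun y e => hb (smul_left_cancel (T y) (e.trans (h.C_fix _ (hTC y)).symm))
  have hsurj : ∀ x, x ≠ a → ∃ y, pt y = x := fun x hx => by
    obtain ⟨c, hc, hcx⟩ := h.C_trans b x hb hx
    obtain ⟨y, rfl⟩ := hTsurj c hc
    exact ⟨y, hcx⟩
  have hpt0 : pt 0 = b := by show T 0 • b = b; rw [hT0, one_smul]
  -- multipliers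
  have hmult : ∀ d : ↥(stabilizer G a ⊓ stabilizer G b),
      ∃ l : {l : ZMod p // l ≠ 0}, ∀ y, (d : G) * T y * (d : G)⁻¹ = T (l.1 * y) := by
    intro d
    obtain ⟨l, hl⟩ := hTsurj _ (h.C_norm _ d.2.1 γ hγC)
    refine ⟨⟨l, fun e => ?_⟩, fun y => ?_⟩
    · rw [e, hT0] at hl
      have e1 := conj_eq_one_iff.1 hl.symm
      rw [e1, orderOf_one] at hγ
      exact hp.ne_one hγ.symm
    · show (d : G) * γ ^ y.val * (d : G)⁻¹ = T (l * y)
      rw [hTmul, hl, conj_pow]
  choose μ hμ using hmult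
  have hμ1 : ∀ d, μ d = ⟨1, one_ne_zero⟩ → (d : G) = 1 := by
    intro d e
    refine h.faithful _ fun x => ?_
    rcases eq_or_ne x a with rfl | hx
    · exact d.2.1
    · obtain ⟨y, rfl⟩ := hsurj x hx
      have e1 := hμ d y
      rw [e, one_mul, mul_inv_eq_iff_eq_mul] at e1
      show (d : G) • T y • b = T y • b
      rw [← mul_smul, e1, mul_smul, show (d : G) • b = b from d.2.2]
  have hact : ∀ (d : ↥(stabilizer G a ⊓ stabilizer G b)) y, (d : G) • pt y = pt ((μ d).1 * y) := by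
    intro d y
    show (d : G) • T y • b = T _ • b
    rw [← hμ, mul_smul, mul_smul, inv_smul_eq_iff.2 (d.2.2 : (d : G) • b = b).symm]
  have hμinj : Function.Injective μ := by
    intro d e heq
    have hk : ∀ y, (e⁻¹ * d : ↥(stabilizer G a ⊓ stabilizer G b)).1 • pt y = pt y := fun y => by
      rw [Subgroup.coe_mul, Subgroup.coe_inv, mul_smul, hact, heq, ← hact, inv_smul_smul]
    have e1 : (μ (e⁻¹ * d)).1 = 1 := by
      have := hact (e⁻¹ * d) 1
      rw [hk] at this
      simpa using (hpt_inj this).symm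
    exact (inv_mul_eq_one.1 (Subtype.ext (hμ1 _ (Subtype.ext e1)))).symm
  have hcard0 : Nat.card {l : ZMod p // l ≠ 0} = p - 1 := by
    rw [Nat.card_eq_fintype_card, Fintype.card_subtype_compl, Fintype.card_subtype_eq, ZMod.card]
  have hDle := Nat.card_le_card_of_injective μ hμinj
  have hinv' := hinv (by omega)
  have hDeq : Nat.card ↥(stabilizer G a ⊓ stabilizer G b) = p - 1 := by
    omega
  have hμbij : Function.Bijective μ := by
    refine (Nat.bijective_iff_injective_and_card μ).2 ⟨hμinj, ?_⟩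
    rw [hDeq, hcard0]
  refine ⟨p, pt, hp, by omega, hpt_inj, hne, hsurj, hpt0, fun t => ?_, fun l hl => ?_, ?_, ?_⟩
  · refine ⟨T t, h.C_fix _ (hTC t), fun y => ?_⟩
    show T t • T y • b = T (y + t) • b
    rw [add_comm, hTadd, mul_smul]
  · obtain ⟨d, hd⟩ := hμbij.2 ⟨l, hl⟩
    exact ⟨d, d.2.1, fun y => by rw [hact, hd]⟩
  · obtain ⟨c, hc⟩ := hsurj (z • pt 1)
      (fun e => one_ne_zero (hpt_inj ((smul_left_cancel z (e.trans hzb.symm)).trans hpt0.symm)))
    refine ⟨c, fun e => ?_, fun y hy => ?_⟩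
    · rw [e, hpt0] at hc
      exact hne 1 (smul_left_cancel z (hc.symm.trans hbdef))
    · obtain ⟨d, hd⟩ := hμbij.2 ⟨y, hy⟩
      obtain ⟨d', hd'⟩ := hμbij.2 ⟨y⁻¹, inv_ne_zero hy⟩
      have hdd : (d' : G) = (d : G)⁻¹ := by
        have e1 : μ (d * d') = ⟨1, one_ne_zero⟩ := Subtype.ext (by
          have := hact (d * d') 1
          rw [Subgroup.coe_mul, mul_smul, hact, hact, hd, hd', mul_one, mul_inv_cancel₀ hy] at this
          simpa using (hpt_inj this).symm)
        have := hμ1 _ e1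
        rw [Subgroup.coe_mul] at this
        exact eq_inv_of_mul_eq_one_right this
      calc z • pt y = z • (d : G) • pt 1 := by rw [hact, hd, mul_one]
        _ = (z * (d : G) * z) • z • pt 1 := by
          rw [smul_smul (z * (d : G) * z) z, show z * (d : G) * z * z = z * (d : G) by rw [mul_assoc, hz2, mul_one],
            ← mul_smul z]
        _ = pt (c * y⁻¹) := by rw [hinv' d, ← hdd, ← hc, hact, hd', mul_comm]
  · intro g x y w hxy hyw hxw hgx hgy hgw
    obtain ⟨k, hka, hkb⟩ := h.two hxy hb.symm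
    have hk : k * g * k⁻¹ ∈ stabilizer G a ⊓ stabilizer G b := by
      refine ⟨?_, ?_⟩
      · show (k * g * k⁻¹) • a = a
        rw [mul_smul, mul_smul, ← hka, inv_smul_smul, hgx]
      · show (k * g * k⁻¹) • b = b
        rw [mul_smul, mul_smul, ← hkb, inv_smul_smul, hgy]
    obtain ⟨l, hl⟩ := hsurj (k • w) (fun e => hxw (smul_left_cancel k (hka.trans e.symm)))
    have hl0 : l ≠ 0 := fun e => hyw (smul_left_cancel k (hkb.trans (by rw [← hl, e, hpt0])))
    have h1 : (⟨_, hk⟩ : ↥(stabilizer G a ⊓ stabilizer G b)).1 • pt l = pt l := by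
      show (k * g * k⁻¹) • pt l = pt l
      rw [hl, mul_smul, mul_smul, inv_smul_smul, hgw]
    rw [hact] at h1
    have h2 : μ ⟨_, hk⟩ = ⟨1, one_ne_zero⟩ := Subtype.ext (mul_left_eq_self₀.1 (hpt_inj h1) |>.resolve_right hl0)
    exact conj_eq_one_iff.1 (hμ1 _ h2)

end CfsgLib.CyclicTimesZ
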