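import Cfsg.Agent.Lib.CyclicTimesZ.Pair

/-!
Counting the involutions interchanging two points.
-/

open MulAction Subgroup

set_option linter.style.haveILetI false
set_option linter.unusedSectionVars false

namespace CfsgLib.CyclicTimesZ.CPair

variable {G Ω : Type*} [Group G] [Finite G] [MulAction G Ω] [Finite Ω] {a : Ω} {C A : Subgroup G}
  (h : CPair G Ω a C A)
include h

/-- The stabiliser of `a` and `z • a`. -/
local notation "Dz" z => (stabilizer G a ⊓ stabilizer G (z • a))

/-- The counting identity. -/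
theorem count {z : G} (hz : z ∈ A) (hz2 : z * z = 1) (hz1 : z ≠ 1) {u : G} (hu : u * u = 1)
    (hu1 : u ≠ 1) (hua : u • a = a) (hub : u • (z • a) = z • a) :
    ∃ ψ : ↥(Dz z) →* G, (∀ d, ψ d = (d : G) * (z * (d : G)⁻¹ * z)) ∧
      Nat.card Ω - Nat.card {x : Ω // u • x = x} =
        (Nat.card {x : Ω // u • x = x} * Nat.card {x : Ω // u • x = x} - Nat.card {x : Ω // u • x = x}) *
          Nat.card ψ.range ∧
      2 * Nat.card ψ.range ≤ Nat.card ↥(Dz z) ∧
      (Nat.card ↥(Dz z) ≤ 2 * Nat.card ψ.range → ∀ d : ↥(Dz z), z * (d : G) * z = (d : G)⁻¹) ∧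
      ∃ v : G, v * v = 1 ∧ v ≠ 1 ∧ (∃ x : Ω, v • x = x) ∧ v • a = z • a := by
  classical
  have := Fintype.ofFinite G
  have := Fintype.ofFinite Ω
  set b := z • a with hbdef
  have hb : b ≠ a := h.z_fpf hz hz1 a
  have hzi : z⁻¹ = z := inv_eq_of_mul_eq_one_right hz2
  have hzb : z • b = a := by rw [hbdef, ← mul_smul, hz2, one_smul]
  have hnorm : ∀ d ∈ (stabilizer G a ⊓ stabilizer G b), z * d * z ∈ (stabilizer G a ⊓ stabilizer G b) := by
    rintro d ⟨hda, hdb⟩
    refine ⟨?_, ?_⟩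
    · show (z * d * z) • a = a
      rw [mul_smul, mul_smul, ← hbdef, show d • b = b from hdb, hzb]
    · show (z * d * z) • b = b
      rw [mul_smul, mul_smul, hzb, show d • a = a from hda]
  have hcomm : ∀ d ∈ (stabilizer G a ⊓ stabilizer G b), ∀ e ∈ (stabilizer G a ⊓ stabilizer G b), d * e = e * d :=
    fun d hd e he => h.D_comm hb hd.1 hd.2 he.1 he.2
  let ψ : ↥(stabilizer G a ⊓ stabilizer G b) →* G :=
    MonoidHom.mk' (fun d => (d : G) * (z * (d : G)⁻¹ * z)) fun d e => by
      have e1 := hcomm _ (hnorm _ ((stabilizer G a ⊓ stabilizer G b).inv_mem d.2)) e e.2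
      have e2 := hcomm _ ((stabilizer G a ⊓ stabilizer G b).inv_mem e.2) _
        ((stabilizer G a ⊓ stabilizer G b).inv_mem d.2)
      calc ((d * e : ↥(stabilizer G a ⊓ stabilizer G b)) : G) * (z * ((d * e : ↥(stabilizer G a ⊓ stabilizer G b)) : G)⁻¹ * z)
          = (d : G) * (e : G) * (z * ((e : G)⁻¹ * (d : G)⁻¹) * z) := by
            rw [Subgroup.coe_mul, mul_inv_rev]
        _ = (d : G) * ((e : G) * (z * (d : G)⁻¹ * z)) * (z * (e : G)⁻¹ * z) := by
            rw [e2]
            simp only [mul_assoc]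
            rw [← mul_assoc z z, hz2, one_mul]
        _ = _ := by rw [← e1]; simp only [mul_assoc]
  let χ : ↥(stabilizer G a ⊓ stabilizer G b) →* G :=
    MonoidHom.mk' (fun d => (d : G) * (z * (d : G) * z)) fun d e => by
      have e1 := hcomm _ (hnorm _ d.2) e e.2
      calc ((d * e : ↥(stabilizer G a ⊓ stabilizer G b)) : G) * (z * ((d * e : ↥(stabilizer G a ⊓ stabilizer G b)) : G) * z)
          = (d : G) * ((e : G) * (z * (d : G) * z)) * (z * (e : G) * z) := by
            rw [Subgroup.coe_mul]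
            simp only [mul_assoc]
            rw [← mul_assoc z z, hz2, one_mul]
        _ = _ := by rw [← e1]; simp only [mul_assoc]
  -- the images
  have hψmem : ∀ m ∈ ψ.range, m ∈ stabilizer G a ⊓ stabilizer G b := by
    rintro m ⟨d, rfl⟩
    exact mul_mem d.2 (hnorm _ (inv_mem d.2))
  have hψinv : ∀ m ∈ ψ.range, z * m * z = m⁻¹ := by
    rintro m ⟨d, rfl⟩
    show z * ((d : G) * (z * (d : G)⁻¹ * z)) * z = ((d : G) * (z * (d : G)⁻¹ * z))⁻¹
    rw [mul_inv_rev, mul_inv_rev, mul_inv_rev, inv_inv, hzi]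
    simp only [mul_assoc, hz2, mul_one]
  set I := χ.ker with hI
  have hIm : ∀ d : ↥(stabilizer G a ⊓ stabilizer G b), d ∈ I ↔ z * (d : G) * z = (d : G)⁻¹ := fun d =>
    MonoidHom.mem_ker.trans (mul_eq_one_iff_inv_eq.trans eq_comm)
  have hFsmall : Nat.card ψ.ker ≤ 2 * Nat.card χ.range := by
    let sq : ψ.ker →* χ.range := MonoidHom.mk' (fun e => ⟨χ e.1, ⟨e.1, rfl⟩⟩) fun e e' =>
      Subtype.ext (map_mul χ e.1 e'.1)
    have h1 := sq.ker.card_mul_index
    rw [Subgroup.index_ker] at h1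
    have h2 : Nat.card sq.range ≤ Nat.card χ.range := Subgroup.card_le_card_group _
    have h3 : Nat.card sq.ker ≤ 2 := by
      have hfix : ∀ e : ψ.ker, z * ((e : ↥(stabilizer G a ⊓ stabilizer G b)) : G) * z = (e : ↥(stabilizer G a ⊓ stabilizer G b)) := by
        intro e
        have h4 : ((e : ↥(stabilizer G a ⊓ stabilizer G b)) : G) * (z * ((e : ↥(stabilizer G a ⊓ stabilizer G b)) : G)⁻¹ * z) = 1 :=
          e.2
        rw [mul_eq_one_iff_eq_inv, mul_inv_rev, mul_inv_rev, inv_inv, hzi, ← mul_assoc] at h4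
        exact h4.symm
      have hinv : ∀ e : sq.ker, (((e : ψ.ker) : ↥(stabilizer G a ⊓ stabilizer G b)) : G) *
          (((e : ψ.ker) : ↥(stabilizer G a ⊓ stabilizer G b)) : G) = 1 := fun e => by
        have h4 : χ (e : ψ.ker).1 = 1 := congrArg Subtype.val (e.2 : sq e.1 = 1)
        change _ * (z * _ * z) = 1 at h4
        rwa [hfix] at h4
      by_contra hgt
      push Not at hgt
      have h5 := Fintype.ofFinite sq.ker
      rw [Nat.card_eq_fintype_card, Fintype.two_lt_card_iff] at hgt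
      obtain ⟨x, y, w, hxy, hxw, hyw⟩ := hgt
      have key : ∀ p q : sq.ker, p ≠ 1 → q ≠ 1 → p = q := fun p q hp hq => by
        have := eq_of_involutions (h.D_cyc b hb) (p : ψ.ker).1.2 (q : ψ.ker).1.2 (hinv p) (hinv q)
          (fun e => hp (Subtype.ext (Subtype.ext (Subtype.ext e))))
          (fun e => hq (Subtype.ext (Subtype.ext (Subtype.ext e))))
        exact Subtype.ext (Subtype.ext (Subtype.ext this))
      by_cases hx : x = 1
      · exact hyw (key y w (fun e => hxy (hx.trans e.symm)) (fun e => hxw (hx.trans e.symm)))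
      · by_cases hy : y = 1
        · exact hxw (key x w hx (fun e => hyw (hy.trans e.symm)))
        · exact hxy (key x y hx hy)
    calc Nat.card ψ.ker = Nat.card sq.ker * Nat.card sq.range := h1.symm
      _ ≤ 2 * Nat.card χ.range := Nat.mul_le_mul h3 h2
  have hIle : Nat.card I ≤ 2 * Nat.card ψ.range := by
    have h1 := I.card_mul_index
    have h2 := ψ.ker.card_mul_index
    rw [hI, Subgroup.index_ker] at h1
    rw [Subgroup.index_ker] at h2
    have h3 : 0 < Nat.card χ.range := Nat.card_pos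
    refine Nat.le_of_mul_le_mul_right ?_ h3
    rw [← hI] at h1
    rw [h1, ← h2, mul_right_comm]
    exact Nat.mul_le_mul_right _ hFsmall
  -- involutions interchanging `a` and `b`
  let Swap : G → Ω → Ω → Prop := fun v x y => v * v = 1 ∧ v ≠ 1 ∧ (∃ w : Ω, v • w = w) ∧ v • x = y
  have hsw_mem : ∀ v, Swap v a b → z * v ∈ stabilizer G a ⊓ stabilizer G b ∧ z * (z * v) * z = (z * v)⁻¹ := by
    rintro v ⟨hv, -, -, hva⟩
    have hvb : v • b = a := by rw [← hva, ← mul_smul, hv, one_smul]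
    refine ⟨⟨?_, ?_⟩, ?_⟩
    · show (z * v) • a = a
      rw [mul_smul, hva, hzb]
    · show (z * v) • b = b
      rw [mul_smul, hvb]
    · rw [mul_inv_rev, hzi, inv_eq_of_mul_eq_one_right hv, ← mul_assoc z z, hz2, one_mul]
  have hconj : ∀ (v : G) (g : G), v * v = 1 ∧ v ≠ 1 ∧ (∃ w : Ω, v • w = w) →
      (g * v * g⁻¹) * (g * v * g⁻¹) = 1 ∧ g * v * g⁻¹ ≠ 1 ∧ ∃ w : Ω, (g * v * g⁻¹) • w = w := by
    rintro v g ⟨hv, hv1, w, hw⟩
    refine ⟨?_, fun e => hv1 (conj_eq_one_iff.1 e), g • w, ?_⟩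
    · rw [show g * v * g⁻¹ * (g * v * g⁻¹) = g * (v * v) * g⁻¹ by group, hv, mul_one, mul_inv_cancel]
    · rw [mul_smul, mul_smul, inv_smul_smul, hw]
  obtain ⟨x₀, hx₀⟩ : ∃ x : Ω, u • x ≠ x := by
    by_contra hn
    push Not at hn
    exact hu1 (h.faithful u hn)
  obtain ⟨g₀, hg₀a, hg₀b⟩ := h.two (Ne.symm hx₀) hb.symm
  obtain ⟨v₁, hv₁⟩ : ∃ v, Swap v a b := by
    refine ⟨g₀ * u * g₀⁻¹, ?_⟩
    obtain ⟨e1, e2, e3⟩ := hconj u g₀ ⟨hu, hu1, a, hua⟩
    exact ⟨e1, e2, e3, by rw [mul_smul, mul_smul, ← hg₀a, inv_smul_smul, hg₀b]⟩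
  -- translation by `ψ`
  have hz_conj' : ∀ d : ↥(stabilizer G a ⊓ stabilizer G b), ∀ i ∈ stabilizer G a ⊓ stabilizer G b,
      z * i * ψ d = (d : G)⁻¹ * (z * i) * (d : G) := by
    intro d i hi
    show z * i * ((d : G) * (z * (d : G)⁻¹ * z)) = _
    have e1 : i * ((d : G) * (z * (d : G)⁻¹ * z)) = z * (d : G)⁻¹ * z * i * d := by
      rw [← mul_assoc, hcomm _ (mul_mem hi d.2) _ (hnorm _ (inv_mem d.2))]
      simp only [mul_assoc]
    rw [mul_assoc z i, e1]
    simp only [← mul_assoc]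
    rw [hz2, one_mul]
  have hSwap_mul : ∀ m ∈ ψ.range, Swap (v₁ * m) a b := by
    rintro m ⟨d, rfl⟩
    have e0 : v₁ * ψ d = (d : G)⁻¹ * v₁ * (d : G) := by
      have := hz_conj' d _ (hsw_mem v₁ hv₁).1
      rwa [← mul_assoc z z, hz2, one_mul] at this
    obtain ⟨e1, e2, e3⟩ := hconj v₁ (d : G)⁻¹ ⟨hv₁.1, hv₁.2.1, hv₁.2.2.1⟩
    rw [inv_inv] at e1 e2 e3
    rw [e0]
    exact ⟨e1, e2, e3, by rw [mul_smul, mul_smul, show (d : G) • a = a from d.2.1, hv₁.2.2.2,
      inv_smul_eq_iff, show (d : G) • b = b from d.2.2]⟩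
  have hzM : ∀ v, Swap v a b → z * v ∉ ψ.range := by
    rintro v hv ⟨d, hd⟩
    have e0 := hz_conj' d 1 (one_mem _)
    rw [mul_one, hd, ← mul_assoc, hz2, one_mul] at e0
    obtain ⟨w, hw⟩ := hv.2.2.1
    refine h.z_fpf hz hz1 ((d : G) • w) ?_
    rw [e0, mul_smul, mul_smul, inv_smul_eq_iff] at hw
    exact hw
  -- the `I`-elements
  let toI : {i : G // i ∈ stabilizer G a ⊓ stabilizer G b ∧ z * i * z = i⁻¹} → I :=
    fun i => ⟨⟨i.1, i.2.1⟩, (hIm _).2 i.2.2⟩
  have hI' : ∀ i ∈ stabilizer G a ⊓ stabilizer G b, z * i * z = i⁻¹ → ∀ m ∈ ψ.range,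
      i * m ∈ stabilizer G a ⊓ stabilizer G b ∧ z * (i * m) * z = (i * m)⁻¹ := by
    intro i hi hii m hm
    refine ⟨mul_mem hi (hψmem m hm), ?_⟩
    rw [hcomm _ hi _ (hψmem m hm), mul_inv_rev, ← hii, ← hψinv m hm,
      show z * i * z * (z * m * z) = z * i * (z * z) * m * z by group, hz2, mul_one,
      mul_assoc z i m, hcomm _ hi _ (hψmem m hm)]
  set i₁ := z * v₁ with hi₁
  have htwo : 2 * Nat.card ψ.range ≤ Nat.card I := by
    have hinj : Function.Injective fun p : Bool × ψ.range =>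
        toI ⟨(if p.1 then i₁ else 1) * p.2.1, hI' _ (by
          split_ifs
          · exact (hsw_mem v₁ hv₁).1
          · exact one_mem _) (by
          split_ifs
          · exact (hsw_mem v₁ hv₁).2
          · rw [mul_one, hz2, inv_one]) _ p.2.2⟩ := by
      rintro ⟨p, m⟩ ⟨q, m'⟩ e
      have e' : (if p then i₁ else 1) * m.1 = (if q then i₁ else 1) * m'.1 :=
        Subtype.ext_iff.1 (Subtype.ext_iff.1 e)
      cases p <;> cases q <;> simp only [Bool.false_eq_true, if_false, if_true, one_mul] at e'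
      · rw [Subtype.ext e']
      · exact absurd (show i₁ ∈ ψ.range by
          rw [eq_mul_inv_of_mul_eq e'.symm]; exact mul_mem m.2 (inv_mem m'.2)) (hzM v₁ hv₁)
      · exact absurd (show i₁ ∈ ψ.range by
          rw [eq_mul_inv_of_mul_eq e']; exact mul_mem m'.2 (inv_mem m.2)) (hzM v₁ hv₁)
      · rw [Subtype.ext (mul_left_cancel e')]
    have := Nat.card_le_card_of_injective _ hinj
    rwa [Nat.card_prod, Nat.card_eq_fintype_card (α := Bool), Fintype.card_bool] at this
  have hswap_only : ∀ v, Swap v a b → ∃ m ∈ ψ.range, v = v₁ * m := by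
    intro v hv
    set i := z * v with hi
    refine ⟨i₁⁻¹ * i, ?_, ?_⟩
    · by_contra hn
      have hinj : Function.Injective fun p : Fin 3 × ψ.range =>
          toI ⟨(![1, i₁, i] p.1) * p.2.1, hI' _ (by
            match p.1 with
            | 0 => exact one_mem _
            | 1 => exact (hsw_mem v₁ hv₁).1
            | 2 => exact (hsw_mem v hv).1) (by
            match p.1 with
            | 0 => show z * 1 * z = 1⁻¹; rw [mul_one, hz2, inv_one]
            | 1 => exact (hsw_mem v₁ hv₁).2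
            | 2 => exact (hsw_mem v hv).2) _ p.2.2⟩ := by
        rintro ⟨p, m⟩ ⟨q, m'⟩ e
        have e' : (![1, i₁, i] p) * m.1 = (![1, i₁, i] q) * m'.1 :=
          Subtype.ext_iff.1 (Subtype.ext_iff.1 e)
        have hc : (![1, i₁, i] p)⁻¹ * (![1, i₁, i] q) ∈ ψ.range := by
          rw [show (![1, i₁, i] p)⁻¹ * (![1, i₁, i] q) = m.1 * m'.1⁻¹ by
            rw [eq_mul_inv_iff_mul_eq, mul_assoc, ← e', inv_mul_cancel_left]]
          exact mul_mem m.2 (inv_mem m'.2)
        have n1 : i₁ ∉ ψ.range := hzM v₁ hv₁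
        have n2 : i ∉ ψ.range := hzM v hv
        have n3 : i⁻¹ * i₁ ∉ ψ.range := fun hh => hn (by simpa using (ψ.range).inv_mem hh)
        fin_cases p <;> fin_cases q <;>
          simp only [Fin.zero_eta, Fin.mk_one, Fin.reduceFinMk, Matrix.cons_val_zero, Matrix.cons_val_one,
            Matrix.cons_val_two, Matrix.cons_val, Matrix.head_cons, Matrix.tail_cons, one_mul, inv_one,
            mul_one, inv_mul_cancel, Subgroup.inv_mem_iff, mul_left_cancel_iff] at hc e'
        all_goals first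
          | exact absurd hc n1
          | exact absurd hc n2
          | exact absurd hc n3
          | exact absurd hc hn
          | rw [Subtype.ext e']
      have h5 := Nat.card_le_card_of_injective _ hinj
      rw [Nat.card_prod, Nat.card_eq_fintype_card (α := Fin 3), Fintype.card_fin] at h5
      have h6 : 0 < Nat.card ψ.range := Nat.card_pos
      omega
    · rw [hi₁, hi, mul_inv_rev, hzi, mul_assoc, ← mul_assoc z z, hz2, one_mul, ← mul_assoc,
        mul_inv_cancel, one_mul]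
  refine ⟨ψ, fun d => rfl, ?_, ?_, ?_, v₁, hv₁⟩
  swap
  · exact htwo.trans (Subgroup.card_le_card_group _)
  swap
  · intro hle d
    have hItop : I = ⊤ := Subgroup.eq_top_of_le_card _ (hle.trans htwo)
    exact (hIm d).1 (hItop ▸ Subgroup.mem_top d)
  -- double counting
  set U : Finset G := Finset.univ.filter fun v => v * v = 1 ∧ v ≠ 1 ∧ ∃ w : Ω, v • w = w with hU
  have hUm : ∀ v, v ∈ U ↔ v * v = 1 ∧ v ≠ 1 ∧ ∃ w : Ω, v • w = w := fun v => by simp [hU]
  set f := Nat.card {x : Ω // u • x = x} with hf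
  have hfix : ∀ v ∈ U, (Finset.univ.filter fun x : Ω => v • x = x).card = f := by
    intro v hv
    obtain ⟨hv2, hv1, x, hx⟩ := (hUm v).1 hv
    obtain ⟨y, hyx, hy⟩ := h.exists_second hv2 hx
    obtain ⟨g, hga, hgb⟩ := h.two hyx.symm hb.symm
    have e := h.conj_u hb hu hu1 hua hub hv2 hv1 hyx.symm hx hy hga hgb
    rw [hf, Nat.card_eq_fintype_card, Fintype.card_subtype]
    refine Finset.card_bij (fun x _ => g • x) ?_ (fun _ _ _ _ e => smul_left_cancel g e) ?_
    · intro w hw
      simp only [Finset.mem_filter, Finset.mem_univ, true_and] at hw ⊢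
      rw [← e, mul_smul, mul_smul, inv_smul_smul, hw]
    · intro w hw
      simp only [Finset.mem_filter, Finset.mem_univ, true_and] at hw ⊢
      refine ⟨g⁻¹ • w, smul_left_cancel g ?_, smul_inv_smul g w⟩
      rw [smul_inv_smul, ← mul_smul, ← mul_smul, e, hw]
  set P : Finset (Ω × Ω) := (Finset.univ : Finset Ω).offDiag with hP
  have hPc : P.card = Nat.card Ω * Nat.card Ω - Nat.card Ω := by
    rw [hP, Finset.offDiag_card, Finset.card_univ, Nat.card_eq_fintype_card]
  have c1 : U.card * (f * f - f) = P.card := by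
    have hd := Finset.sum_card_bipartiteAbove_eq_sum_card_bipartiteBelow (s := U) (t := P)
      (r := fun v p => v • p.1 = p.1 ∧ v • p.2 = p.2)
    have s1 : ∀ v ∈ U, (P.bipartiteAbove (fun v p => v • p.1 = p.1 ∧ v • p.2 = p.2) v).card = f * f - f := by
      intro v hv
      have e : P.bipartiteAbove (fun v p => v • p.1 = p.1 ∧ v • p.2 = p.2) v =
          (Finset.univ.filter fun x : Ω => v • x = x).offDiag := by
        ext p
        simp [Finset.bipartiteAbove, hP]
        tauto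
      rw [e, Finset.offDiag_card, hfix v hv]
    have s2 : ∀ p ∈ P, (U.bipartiteBelow (fun v p => v • p.1 = p.1 ∧ v • p.2 = p.2) p).card = 1 := by
      intro p hp
      simp only [hP, Finset.mem_offDiag, Finset.mem_univ, true_and] at hp
      obtain ⟨g, hga, hgb⟩ := h.two hb.symm hp
      rw [Finset.card_eq_one]
      refine ⟨g * u * g⁻¹, Finset.eq_singleton_iff_unique_mem.2 ⟨?_, ?_⟩⟩
      · simp only [Finset.bipartiteBelow, Finset.mem_filter]
        refine ⟨(hUm _).2 (hconj u g ⟨hu, hu1, a, hua⟩), ?_, ?_⟩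
        · rw [mul_smul, mul_smul, ← hga, inv_smul_smul, hua]
        · rw [mul_smul, mul_smul, ← hgb, inv_smul_smul, hub]
      · intro v hv
        simp only [Finset.bipartiteBelow, Finset.mem_filter] at hv
        obtain ⟨hv', hx, hy⟩ := hv
        obtain ⟨hv2, hv1, -⟩ := (hUm v).1 hv'
        obtain ⟨k1, k2, -⟩ := hconj u g ⟨hu, hu1, a, hua⟩
        exact h.eq_of_fix hv2 k1 hv1 k2 hp hx hy (by rw [mul_smul, mul_smul, ← hga, inv_smul_smul, hua])
          (by rw [mul_smul, mul_smul, ← hgb, inv_smul_smul, hub])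
    rw [Finset.sum_congr rfl s1, Finset.sum_congr rfl s2, Finset.sum_const, Finset.sum_const, smul_eq_mul,
      smul_eq_mul, mul_one] at hd
    exact hd
  have c2 : U.card * (Nat.card Ω - f) = P.card * Nat.card ψ.range := by
    have hd := Finset.sum_card_bipartiteAbove_eq_sum_card_bipartiteBelow (s := U) (t := P)
      (r := fun v p => v • p.1 = p.2)
    have s1 : ∀ v ∈ U, (P.bipartiteAbove (fun v p => v • p.1 = p.2) v).card = Nat.card Ω - f := by
      intro v hv
      rw [← hfix v hv, Nat.card_eq_fintype_card,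
        ← Finset.card_univ_diff, Finset.bipartiteAbove]
      refine Finset.card_bij (fun p _ => p.1) ?_ ?_ ?_
      · intro p hp
        simp [hP] at hp ⊢
        intro e
        exact hp.1 (e.symm.trans hp.2)
      · intro p hp q hq e
        simp [hP] at hp hq
        exact Prod.ext e (by rw [← hp.2, ← hq.2, e])
      · intro x hx
        simp [hP] at hx ⊢
        exact fun e => hx e.symm
    have s2 : ∀ p ∈ P, (U.bipartiteBelow (fun v p => v • p.1 = p.2) p).card = Nat.card ψ.range := by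
      intro p hp
      simp only [hP, Finset.mem_offDiag, Finset.mem_univ, true_and] at hp
      obtain ⟨g, hga, hgb⟩ := h.two hb.symm hp
      rw [Nat.card_eq_fintype_card, ← Finset.card_univ]
      symm
      refine Finset.card_bij (fun m _ => g * (v₁ * m.1) * g⁻¹) ?_ ?_ ?_
      · intro m _
        obtain ⟨k0, k1, k2, k3⟩ := hSwap_mul m.1 m.2
        simp only [Finset.bipartiteBelow, Finset.mem_filter]
        refine ⟨(hUm _).2 (hconj _ g ⟨k0, k1, k2⟩), ?_⟩
        rw [mul_smul, mul_smul, ← hga, inv_smul_smul, k3, hgb]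
      · intro m _ m' _ e
        exact Subtype.ext (mul_left_cancel (mul_left_cancel (mul_right_cancel e)))
      · intro v hv
        simp only [Finset.bipartiteBelow, Finset.mem_filter] at hv
        obtain ⟨k0, k1, k2⟩ := hconj v g⁻¹ ((hUm v).1 hv.1)
        obtain ⟨m, hm, e⟩ := hswap_only (g⁻¹ * v * g⁻¹⁻¹) ⟨k0, k1, k2, by
          rw [inv_inv, mul_smul, mul_smul, hga, hv.2, ← hgb, inv_smul_smul]⟩
        refine ⟨⟨m, hm⟩, Finset.mem_univ _, ?_⟩
        show g * (v₁ * m) * g⁻¹ = v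
        rw [← e]; group
    rw [Finset.sum_congr rfl s1, Finset.sum_congr rfl s2, Finset.sum_const, Finset.sum_const, smul_eq_mul,
      smul_eq_mul] at hd
    exact hd
  have hUpos : 0 < U.card := Finset.card_pos.2 ⟨u, (hUm u).2 ⟨hu, hu1, a, hua⟩⟩
  refine Nat.eq_of_mul_eq_mul_left hUpos ?_
  rw [c2, ← c1, mul_assoc]

end CfsgLib.CyclicTimesZ.CPair
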