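import Cfsg.Agent.Lib.CyclicTimesZ.PGLFacts
import Cfsg.Agent.Lib.CharApps.Kazarin

/-!
Products of a cyclic group and a group with cyclic Sylow subgroups: the reduction.
-/

open MulAction
open scoped Pointwise commutatorElement

set_option linter.style.haveILetI false
set_option linter.unusedSectionVars false

namespace CfsgLib.CyclicTimesZ

universe w

/-- A factorisation by a cyclic subgroup and a subgroup with cyclic Sylow subgroups. -/
structure Fac {G : Type*} [Group G] (A B : Subgroup G) : Prop where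
  hA : IsCyclic A
  hB : IsZGroup B
  mul : ∀ g : G, ∃ a ∈ A, ∃ b ∈ B, g = a * b

/-- The conclusion. -/
def Conc (G : Type*) [Group G] : Prop :=
  ∃ p : ℕ, p.Prime ∧ 3 < p ∧ ∃ π : G →* Matrix.ProjGenLinGroup (Fin 2) (ZMod p),
    Function.Surjective π ∧ Group.IsSolvable π.ker

theorem Fac.quotient {G : Type*} [Group G] [Finite G] {A B : Subgroup G} (h : Fac A B) (N : Subgroup G)
    [N.Normal] : Fac (A.map (QuotientGroup.mk' N)) (B.map (QuotientGroup.mk' N)) := by
  haveI := h.hA
  haveI := h.hB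
  refine ⟨isCyclic_of_surjective _ ((QuotientGroup.mk' N).subgroupMap_surjective A),
    IsZGroup.of_surjective ((QuotientGroup.mk' N).subgroupMap_surjective B), fun q => ?_⟩
  obtain ⟨g, rfl⟩ := QuotientGroup.mk'_surjective N q
  obtain ⟨a, ha, b, hb, rfl⟩ := h.mul g
  exact ⟨_, ⟨a, ha, rfl⟩, _, ⟨b, hb, rfl⟩, map_mul _ _ _⟩

theorem Fac.subgroup {G : Type*} [Group G] [Finite G] {A B : Subgroup G} (h : Fac A B) (M : Subgroup G)
    (hM : ∀ m ∈ M, ∃ a ∈ A, ∃ b ∈ B, a ∈ M ∧ b ∈ M ∧ m = a * b) : Fac (A.subgroupOf M) (B.subgroupOf M) := by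
  haveI := h.hA
  haveI := h.hB
  refine ⟨isCyclic_of_injective ((M.subtype.comp (A.subgroupOf M).subtype).codRestrict A fun x => x.2)
      (fun x y e => Subtype.ext (Subtype.ext (Subtype.ext_iff.1 e :))),
    IsZGroup.of_injective (f := (M.subtype.comp (B.subgroupOf M).subtype).codRestrict B fun x => x.2)
      (fun x y e => Subtype.ext (Subtype.ext (Subtype.ext_iff.1 e :))), fun m => ?_⟩
  obtain ⟨a, ha, b, hb, haM, hbM, e⟩ := hM m.1 m.2
  exact ⟨⟨a, haM⟩, ha, ⟨b, hbM⟩, hb, Subtype.ext e⟩

section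

variable {G : Type w} [Group G] [Finite G] {A B : Subgroup G}
  (hrad : ∀ N : Subgroup G, N.Normal → Group.IsSolvable N → N = ⊥)
  (hfac : Fac A B)

include hrad in
/-- A solvable normal subgroup of a normal subgroup is trivial. -/
theorem normal_in_normal_eq_bot (N : Subgroup G) [N.Normal] (J : Subgroup N) [J.Normal]
    (hJ : Group.IsSolvable J) : J = ⊥ := by
  classical
  have := Fintype.ofFinite G
  let f : G → Subgroup N := fun g => J.map (MulAut.conjNormal g : MulAut N).toMonoidHom
  have hn : ∀ g, (f g).Normal := fun g => Subgroup.Normal.map ‹J.Normal› _ (MulEquiv.surjective _)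
  have hs : ∀ g, Group.IsSolvable (f g) := fun g =>
    Group.isSolvable_of_surjective (f := (MulAut.conjNormal g : MulAut N).toMonoidHom.subgroupMap J)
      (MonoidHom.subgroupMap_surjective _ _)
  obtain ⟨hWn, hWs⟩ := CfsgLib.CharApps.Kazarin.isSolvable_iSup_normal f hn hs Finset.univ
  set W : Subgroup N := Finset.univ.sup f with hW
  have hWG : (W.map N.subtype).Normal := by
    refine ⟨fun x hx g => ?_⟩
    obtain ⟨x, hx, rfl⟩ := hx
    refine ⟨MulAut.conjNormal g x, ?_, MulAut.conjNormal_apply g x⟩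
    have hle : W ≤ W.comap (MulAut.conjNormal g : MulAut N).toMonoidHom := by
      refine Finset.sup_le fun k _ => ?_
      rw [← Subgroup.map_le_iff_le_comap]
      show (J.map _).map _ ≤ _
      rw [Subgroup.map_map]
      refine le_trans (le_of_eq ?_) (Finset.le_sup (f := f) (Finset.mem_univ (g * k)))
      show _ = J.map _
      congr 1
      rw [map_mul]; rfl
    exact hle hx
  haveI := hWs
  have h1 := hrad _ hWG (Group.isSolvable_of_surjective (f := N.subtype.subgroupMap W)
    (MonoidHom.subgroupMap_surjective _ _))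
  have h2 : J ≤ W := by
    refine le_trans (le_of_eq ?_) (Finset.le_sup (f := f) (Finset.mem_univ 1))
    show J = J.map _
    rw [map_one]
    exact (Subgroup.map_id J).symm
  rw [Subgroup.map_eq_bot_iff_of_injective _ N.subtype_injective] at h1
  exact le_bot_iff.1 (h1 ▸ h2)

include hfac in
theorem exists_ba (g : G) : ∃ b ∈ B, ∃ a ∈ A, g = b * a := by
  obtain ⟨a, ha, b, hb, e⟩ := hfac.mul g⁻¹
  exact ⟨b⁻¹, B.inv_mem hb, a⁻¹, A.inv_mem ha, by rw [← mul_inv_rev, ← e, inv_inv]⟩

include hfac in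
/-- A subgroup above `B` that meets `A` contains a normal subgroup. -/
theorem normalClosure_inter_le (M : Subgroup G) (hBM : B ≤ M) :
    Subgroup.normalClosure ((A : Set G) ∩ M) ≤ M := by
  rw [Subgroup.normalClosure, Subgroup.closure_le]
  rintro y hy
  obtain ⟨x, ⟨hxA, hxM⟩, hxy⟩ := Group.mem_conjugatesOfSet_iff.1 hy
  obtain ⟨c, hc⟩ := isConj_iff.1 hxy
  obtain ⟨b, hb, a, ha, rfl⟩ := exists_ba hfac c
  haveI := hfac.hA
  letI : CommGroup A := IsCyclic.commGroup
  have hax : a * x = x * a := congrArg Subtype.val (mul_comm (⟨a, ha⟩ : A) ⟨x, hxA⟩)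
  rw [← hc, mul_inv_rev, mul_assoc b a x, hax, show b * (x * a) * (a⁻¹ * b⁻¹) = b * x * b⁻¹ by group]
  exact M.mul_mem (M.mul_mem (hBM hb) hxM) (M.inv_mem (hBM hb))

include hrad hfac in
theorem inter_eq_one {x : G} (hxA : x ∈ A) (hxB : x ∈ B) : x = 1 := by
  haveI := hfac.hB
  have h1 := normalClosure_inter_le hfac B le_rfl
  have h2 := hrad _ Subgroup.normalClosure_normal
    (Group.isSolvable_of_isSolvable_injective (Subgroup.inclusion_injective h1))
  have h3 : x ∈ Subgroup.normalClosure ((A : Set G) ∩ B) := Subgroup.subset_normalClosure ⟨hxA, hxB⟩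
  rwa [h2, Subgroup.mem_bot] at h3

include hrad hfac in
theorem card_eq_mul : Nat.card G = Nat.card A * Nat.card B := by
  rw [← Nat.card_prod]
  refine (Nat.card_congr (Equiv.ofBijective (fun x : A × B => (x.1 : G) * x.2) ⟨?_, fun g => ?_⟩)).symm
  · rintro ⟨a, b⟩ ⟨a', b'⟩ e
    have e' : (a : G) * b = a' * b' := e
    have h1 : (a' : G)⁻¹ * a = b' * (b : G)⁻¹ := by
      rw [inv_mul_eq_iff_eq_mul, ← mul_assoc, ← e', mul_inv_cancel_right]
    have h2 := inter_eq_one hrad hfac (A.mul_mem (A.inv_mem a'.2) a.2)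
      (show (a' : G)⁻¹ * a ∈ B by rw [h1]; exact B.mul_mem b'.2 (B.inv_mem b.2))
    have ea : a = a' := Subtype.ext (inv_mul_eq_one.1 h2).symm
    subst ea
    exact Prod.ext rfl (Subtype.ext (mul_left_cancel e'))
  · obtain ⟨a, ha, b, hb, rfl⟩ := hfac.mul g
    exact ⟨(⟨a, ha⟩, ⟨b, hb⟩), rfl⟩

variable (hIH : ∀ (H : Type w) [Group H] [Finite H] (A' B' : Subgroup H),
    Nat.card H < Nat.card G → ¬ Group.IsSolvable H → Fac A' B' → Conc H)

include hrad hfac hIH in
/-- A nontrivial normal subgroup has trivial centraliser. -/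
theorem centralizer_eq_bot (N : Subgroup G) [N.Normal] (hN : N ≠ ⊥) :
    Subgroup.centralizer (N : Set G) = ⊥ := by
  classical
  by_contra hC
  set C := Subgroup.centralizer (N : Set G) with hCdef
  have hNC : N ⊓ C = ⊥ := by
    refine hrad _ inferInstance ?_
    exact Group.isSolvable_of_comm fun x y => Subtype.ext
      (Subgroup.mem_centralizer_iff.1 y.2.2 x.1 x.2.1)
  have key : ∀ (U V : Subgroup G) [U.Normal] [V.Normal], U ≠ ⊥ → V ≠ ⊥ → U ⊓ V = ⊥ →
      ∃ p : ℕ, ∃ _ : Fact p.Prime, 3 < p ∧ ∃ π : G →* Matrix.ProjGenLinGroup (Fin 2) (ZMod p),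
        Function.Surjective π ∧ U ≤ π.ker ∧ V ⊓ π.ker = ⊥ ∧
          ∀ W : Subgroup G, W ≤ π.ker → W ⊓ U = ⊥ → Group.IsSolvable W := by
    intro U V _ _ hU hV hUV
    have hVns : ¬ Group.IsSolvable (G ⧸ U) := by
      intro hs
      refine hV (hrad V inferInstance ?_)
      refine Group.isSolvable_of_isSolvable_injective (f := (QuotientGroup.mk' U).comp V.subtype) ?_
      rw [← MonoidHom.ker_eq_bot_iff, Subgroup.eq_bot_iff_forall]
      intro x hx
      have : (x : G) ∈ U ⊓ V := ⟨(QuotientGroup.eq_one_iff _).1 hx, x.2⟩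
      rw [hUV, Subgroup.mem_bot] at this
      exact Subtype.ext this
    have hlt : Nat.card (G ⧸ U) < Nat.card G := by
      have h1 := U.card_eq_card_quotient_mul_card_subgroup
      have h2 : 1 < Nat.card U := U.one_lt_card_iff_ne_bot.2 hU
      have h3 : 0 < Nat.card (G ⧸ U) := Nat.card_pos
      nlinarith
    obtain ⟨p, hp, hp3, π, hπ, hπs⟩ := hIH (G ⧸ U) _ _ hlt hVns (hfac.quotient U)
    haveI := hπs
    have hW : ∀ W : Subgroup G, W ≤ (π.comp (QuotientGroup.mk' U)).ker → W ⊓ U = ⊥ → Group.IsSolvable W := by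
      intro W hW hWU
      refine Group.isSolvable_of_isSolvable_injective
        (f := ((QuotientGroup.mk' U).comp W.subtype).codRestrict π.ker fun x => hW x.2) ?_
      rw [← MonoidHom.ker_eq_bot_iff, Subgroup.eq_bot_iff_forall]
      intro x hx
      have : (x : G) ∈ W ⊓ U := ⟨x.2, (QuotientGroup.eq_one_iff _).1 (congrArg Subtype.val hx)⟩
      rw [hWU, Subgroup.mem_bot] at this
      exact Subtype.ext this
    refine ⟨p, ⟨hp⟩, hp3, π.comp (QuotientGroup.mk' U), hπ.comp (QuotientGroup.mk'_surjective U), ?_, ?_, hW⟩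
    · intro x hx
      rw [MonoidHom.mem_ker, MonoidHom.comp_apply, QuotientGroup.mk'_apply, (QuotientGroup.eq_one_iff _).2 hx,
        map_one]
    · refine hrad _ inferInstance (hW _ inf_le_right ?_)
      exact le_bot_iff.1 (hUV ▸ le_inf inf_le_right (inf_le_left.trans inf_le_left))
  obtain ⟨p₁, _, hp₁, π₁, hπ₁, hN1, hC1, hW1⟩ := key N C hN hC hNC
  obtain ⟨p₂, _, hp₂, π₂, hπ₂, hC2, hN2, -⟩ := key C N hC hN (by rw [inf_comm]; exact hNC)
  set π := π₁.prod π₂ with hπdef
  have hinj : Function.Injective π := by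
    rw [← MonoidHom.ker_eq_bot_iff, hπdef, MonoidHom.ker_prod]
    refine hrad _ inferInstance (hW1 _ inf_le_left ?_)
    exact le_bot_iff.1 (hN2 ▸ le_inf inf_le_right (inf_le_left.trans inf_le_right))
  -- the image has index at most two
  have hidx : 2 * Nat.card G ≥ Nat.card (Matrix.ProjGenLinGroup (Fin 2) (ZMod p₁)) *
      Nat.card (Matrix.ProjGenLinGroup (Fin 2) (ZMod p₂)) := by
    haveI : (C.map π₁).Normal := Subgroup.Normal.map inferInstance _ hπ₁
    haveI : (N.map π₂).Normal := Subgroup.Normal.map inferInstance _ hπ₂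
    have hne1 : C.map π₁ ≠ ⊥ := fun e => hC (le_bot_iff.1 (hC1 ▸ le_inf le_rfl ((Subgroup.map_eq_bot_iff C).1 e)))
    have hne2 : N.map π₂ ≠ ⊥ := fun e => hN (le_bot_iff.1 (hN2 ▸ le_inf le_rfl ((Subgroup.map_eq_bot_iff N).1 e)))
    have hle1 := psl_le_of_normal hp₁ _ hne1
    have hle2 := psl_le_of_normal hp₂ _ hne2
    have hsub : (CfsgLib.PSL2.pslRange (ZMod p₁)).prod (CfsgLib.PSL2.pslRange (ZMod p₂)) ≤ π.range := by
      rintro ⟨x, y⟩ ⟨hx, hy⟩
      obtain ⟨c, hc, rfl⟩ := hle1 hx
      obtain ⟨m, hm, rfl⟩ := hle2 hy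
      exact ⟨c * m, Prod.ext (by simp [hπdef, MonoidHom.mem_ker.1 (hN1 hm)])
        (by simp [hπdef, MonoidHom.mem_ker.1 (hC2 hc)])⟩
    have h1 := Subgroup.index_dvd_of_le hsub
    rw [Subgroup.index_prod, index_psl hp₁, index_psl hp₂] at h1
    have h2 : π.range.index ≠ 4 := by
      intro e
      have h3 : π.range = (CfsgLib.PSL2.pslRange (ZMod p₁)).prod (CfsgLib.PSL2.pslRange (ZMod p₂)) := by
        refine (Subgroup.eq_of_le_of_card_ge hsub (le_of_eq ?_)).symm
        have i1 := π.range.index_mul_card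
        have i2 := ((CfsgLib.PSL2.pslRange (ZMod p₁)).prod (CfsgLib.PSL2.pslRange (ZMod p₂))).index_mul_card
        rw [Subgroup.index_prod, index_psl hp₁, index_psl hp₂] at i2
        rw [e] at i1
        omega
      have h4 : CfsgLib.PSL2.pslRange (ZMod p₁) = ⊤ := by
        refine eq_top_iff.2 fun x _ => ?_
        obtain ⟨g, rfl⟩ := hπ₁ x
        have hm : π g ∈ π.range := ⟨g, rfl⟩
        rw [h3] at hm
        exact hm.1
      have := index_psl (p := p₁) hp₁
      rw [h4, Subgroup.index_top] at this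
      omega
    have h4 : π.range.index ≤ 2 := by
      have := Nat.le_of_dvd (by norm_num) h1
      have h5 : π.range.index ≠ 3 := fun e => by rw [e] at h1; norm_num at h1
      omega
    have i1 := π.range.index_mul_card
    rw [← Nat.card_congr (MonoidHom.ofInjective hinj).toEquiv, Nat.card_prod] at i1
    rw [ge_iff_le, ← i1]
    exact Nat.mul_le_mul_right _ h4
  -- a Sylow 2-subgroup is a product of two cyclic groups
  haveI : Fact (Nat.Prime 2) := ⟨Nat.prime_two⟩
  haveI := hfac.hA
  haveI := hfac.hB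
  obtain ⟨A₂⟩ : Nonempty (Sylow 2 A) := inferInstance
  obtain ⟨B₂⟩ : Nonempty (Sylow 2 B) := inferInstance
  obtain ⟨P₀, hP₀⟩ := (A₂.2.map A.subtype).exists_le_sylow
  obtain ⟨P₁, hP₁⟩ := (B₂.2.map B.subtype).exists_le_sylow
  obtain ⟨x, hx⟩ := MulAction.exists_smul_eq G P₁ P₀
  obtain ⟨α, hα, β, hβ, rfl⟩ := hfac.mul x
  set P : Sylow 2 G := β • P₁ with hPdef
  have hPA : A₂.1.map A.subtype ≤ (P : Subgroup G) := by
    intro y hy
    have e : P = α⁻¹ • P₀ := by rw [hPdef, ← hx, mul_smul, inv_smul_smul]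
    rw [e, Sylow.smul_def, Sylow.pointwise_smul_def]
    refine Subgroup.mem_pointwise_smul_iff_inv_smul_mem.2 ?_
    obtain ⟨y, hy', rfl⟩ := hy
    letI : CommGroup A := IsCyclic.commGroup
    have hc : α * (y : G) = (y : G) * α := congrArg Subtype.val (mul_comm (⟨α, hα⟩ : A) y)
    have : (MulAut.conj α⁻¹)⁻¹ • (y : G) = y := by
      simp [MulAut.smul_def, MulAut.conj_apply, hc]
    rw [show A.subtype y = (y : G) from rfl, this]
    exact hP₀ ⟨y, hy', rfl⟩
  obtain ⟨a₂, ha₂⟩ := IsCyclic.exists_generator (α := A₂.1)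
  obtain ⟨b₂, hb₂⟩ := IsCyclic.exists_generator (α := B₂.1)
  set aG : G := ((a₂ : A) : G) with haG
  set bG : G := β * ((b₂ : B) : G) * β⁻¹ with hbG
  have haP : aG ∈ (P : Subgroup G) := hPA ⟨a₂.1, a₂.2, rfl⟩
  have hbP : bG ∈ (P : Subgroup G) := by
    rw [hPdef, Sylow.smul_def, Sylow.pointwise_smul_def]
    refine Subgroup.mem_pointwise_smul_iff_inv_smul_mem.2 ?_
    have : (MulAut.conj β)⁻¹ • bG = ((b₂ : B) : G) := by
      simp [hbG, MulAut.smul_def, MulAut.conj_apply, mul_assoc]
    rw [this]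
    exact hP₁ ⟨b₂.1, b₂.2, rfl⟩
  have hprod : ∀ y : P, ∃ i j : ℤ, (y : G) = aG ^ i * bG ^ j := by
    have hA2 : ∀ u : A₂.1, ((u : A) : G) ∈ Subgroup.zpowers aG := fun u => by
      obtain ⟨k, hk⟩ := Subgroup.mem_zpowers_iff.1 (ha₂ u)
      exact ⟨k, by show aG ^ k = _; rw [haG, ← hk, Subgroup.coe_zpow, Subgroup.coe_zpow]⟩
    have hB2 : ∀ v : B₂.1, β * ((v : B) : G) * β⁻¹ ∈ Subgroup.zpowers bG := fun v => by
      obtain ⟨k, hk⟩ := Subgroup.mem_zpowers_iff.1 (hb₂ v)
      exact ⟨k, by show bG ^ k = _; rw [hbG, conj_zpow, ← hk, Subgroup.coe_zpow, Subgroup.coe_zpow]⟩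
    let F : A₂.1 × B₂.1 → (P : Subgroup G) := fun q => ⟨((q.1 : A) : G) * (β * ((q.2 : B) : G) * β⁻¹),
      (P : Subgroup G).mul_mem ((Subgroup.zpowers_le.2 haP) (hA2 q.1)) ((Subgroup.zpowers_le.2 hbP) (hB2 q.2))⟩
    have hFinj : Function.Injective F := by
      rintro ⟨u, v⟩ ⟨u', v'⟩ e
      have e' : ((u : A) : G) * (β * ((v : B) : G) * β⁻¹) = ((u' : A) : G) * (β * ((v' : B) : G) * β⁻¹) :=
        congrArg Subtype.val e
      have h1 : ((u' : A) : G)⁻¹ * ((u : A) : G) = β * ((v' : B) : G) * ((v : B) : G)⁻¹ * β⁻¹ := by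
        rw [inv_mul_eq_iff_eq_mul, show β * ((v' : B) : G) * ((v : B) : G)⁻¹ * β⁻¹ =
          (β * ((v' : B) : G) * β⁻¹) * (β * ((v : B) : G) * β⁻¹)⁻¹ by group, ← mul_assoc, ← e',
          mul_inv_cancel_right]
      have h2 := inter_eq_one hrad hfac (A.mul_mem (A.inv_mem (u' : A).2) (u : A).2) (by
        rw [h1]
        exact B.mul_mem (B.mul_mem (B.mul_mem hβ (v' : B).2) (B.inv_mem (v : B).2)) (B.inv_mem hβ))
      have eu : u = u' := Subtype.ext (Subtype.ext (inv_mul_eq_one.1 h2).symm)
      subst eu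
      exact Prod.ext rfl (Subtype.ext (Subtype.ext (mul_left_cancel (mul_right_cancel (mul_left_cancel e')))))
    have hc : Nat.card P = Nat.card (A₂.1 × B₂.1) := by
      rw [Nat.card_prod, P.card_eq_multiplicity, A₂.card_eq_multiplicity, B₂.card_eq_multiplicity,
        card_eq_mul hrad hfac, Nat.factorization_mul Nat.card_pos.ne' Nat.card_pos.ne', Finsupp.add_apply,
        pow_add]
    have hFb := (Nat.bijective_iff_injective_and_card F).2 ⟨hFinj, hc.symm⟩
    intro y
    obtain ⟨⟨u, v⟩, rfl⟩ := hFb.2 y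
    obtain ⟨i, hi⟩ := hA2 u
    obtain ⟨j, hj⟩ := hB2 v
    exact ⟨i, j, by show _ * _ = _; rw [← hi, ← hj]⟩
  -- the Frattini quotients
  obtain ⟨Q₁, hQ₁⟩ := (P.2.map π₁).exists_le_sylow
  obtain ⟨Q₂, hQ₂⟩ := (P.2.map π₂).exists_le_sylow
  let r₁ : P →* Q₁ := (π₁.comp (P : Subgroup G).subtype).codRestrict (Q₁ : Subgroup _) fun y => hQ₁ ⟨y, y.2, rfl⟩
  let r₂ : P →* Q₂ := (π₂.comp (P : Subgroup G).subtype).codRestrict (Q₂ : Subgroup _) fun y => hQ₂ ⟨y, y.2, rfl⟩
  let χ : P →* (Q₁ ⧸ frattini Q₁) × (Q₂ ⧸ frattini Q₂) :=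
    ((QuotientGroup.mk' _).comp r₁).prod ((QuotientGroup.mk' _).comp r₂)
  have hsq : ∀ y : P, χ y ^ (2 : ℤ) = 1 := by
    intro y
    rw [zpow_ofNat]
    refine Prod.ext ?_ ?_
    · show (QuotientGroup.mk' (frattini Q₁) (r₁ y)) ^ 2 = 1
      rw [← map_pow]
      exact (QuotientGroup.eq_one_iff _).2 (CfsgLib.PGroups.pow_mem_frattini Q₁.2 _)
    · show (QuotientGroup.mk' (frattini Q₂) (r₂ y)) ^ 2 = 1
      rw [← map_pow]
      exact (QuotientGroup.eq_one_iff _).2 (CfsgLib.PGroups.pow_mem_frattini Q₂.2 _)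
  have hpar : ∀ (y : P) (i : ℤ), χ y ^ i = χ y ^ (i % 2) := fun y i => by
    conv_lhs => rw [← Int.emod_add_mul_ediv i 2, zpow_add, zpow_mul, hsq, one_zpow, mul_one]
  have hrange : Nat.card χ.range ≤ 4 := by
    let F : Bool × Bool → χ.range := fun q => ⟨(if q.1 then χ ⟨aG, haP⟩ else 1) * (if q.2 then χ ⟨bG, hbP⟩ else 1),
      mul_mem (by split_ifs <;> [exact ⟨_, rfl⟩; exact one_mem _]) (by split_ifs <;> [exact ⟨_, rfl⟩; exact one_mem _])⟩
    have hF : Function.Surjective F := by
      rintro ⟨_, y, rfl⟩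
      obtain ⟨i, j, hij⟩ := hprod y
      refine ⟨(i % 2 == 1, j % 2 == 1), Subtype.ext ?_⟩
      have e : y = (⟨aG, haP⟩ : P) ^ i * (⟨bG, hbP⟩ : P) ^ j := Subtype.ext (by
        rw [Subgroup.coe_mul, Subgroup.coe_zpow, Subgroup.coe_zpow, ← hij])
      show _ = χ y
      rw [e, map_mul, map_zpow, map_zpow, hpar _ i, hpar _ j]
      rcases Int.emod_two_eq_zero_or_one i with hi | hi <;>
        rcases Int.emod_two_eq_zero_or_one j with hj | hj <;> simp [F, hi, hj]
    have := Nat.card_le_card_of_surjective F hF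
    rwa [Nat.card_prod, Nat.card_eq_fintype_card (α := Bool), Fintype.card_bool] at this
  have hker : Nat.card χ.ker ≤ Nat.card (frattini Q₁) * Nat.card (frattini Q₂) := by
    rw [← Nat.card_prod]
    refine Nat.card_le_card_of_injective (fun y : χ.ker =>
      ((⟨r₁ y.1, (QuotientGroup.eq_one_iff _).1 (congrArg Prod.fst y.2)⟩,
        ⟨r₂ y.1, (QuotientGroup.eq_one_iff _).1 (congrArg Prod.snd y.2)⟩) : frattini Q₁ × frattini Q₂)) ?_
    intro y y' e
    refine Subtype.ext (Subtype.ext (hinj (Prod.ext ?_ ?_)))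
    · exact congrArg (fun q : frattini Q₁ × frattini Q₂ => ((q.1 : Q₁) : Matrix.ProjGenLinGroup (Fin 2) (ZMod p₁))) e
    · exact congrArg (fun q : frattini Q₁ × frattini Q₂ => ((q.2 : Q₂) : Matrix.ProjGenLinGroup (Fin 2) (ZMod p₂))) e
  have hup : Nat.card Q₁ * Nat.card Q₂ ≤ 2 * Nat.card P := by
    rw [P.card_eq_multiplicity, Q₁.card_eq_multiplicity, Q₂.card_eq_multiplicity, ← pow_add, ← pow_succ']
    refine Nat.pow_le_pow_right two_pos ?_
    have i1 := π.range.index_mul_card
    rw [← Nat.card_congr (MonoidHom.ofInjective hinj).toEquiv, Nat.card_prod] at i1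
    have hi0 : π.range.index ≠ 0 := Subgroup.index_ne_zero_of_finite
    have hi2 : π.range.index ≤ 2 := by
      have hpos : 0 < Nat.card G := Nat.card_pos
      nlinarith
    have := congrArg (fun v => v.factorization 2) i1
    rw [Nat.factorization_mul hi0 Nat.card_pos.ne', Nat.factorization_mul
      (Nat.card_pos (α := Matrix.ProjGenLinGroup (Fin 2) (ZMod p₁))).ne' Nat.card_pos.ne'] at this
    simp only [Finsupp.add_apply] at this
    have h3 : π.range.index.factorization 2 ≤ 1 := by
      rcases (show π.range.index = 1 ∨ π.range.index = 2 by omega) with e | e <;> rw [e]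
      · simp
      · simp [Nat.prime_two.factorization_self]
    omega
  have f1 := index_frattini_sylow hp₁ Q₁
  have f2 := index_frattini_sylow hp₂ Q₂
  have c1 := (frattini Q₁).index_mul_card
  have c2 := (frattini Q₂).index_mul_card
  have c3 := χ.ker.index_mul_card
  rw [Subgroup.index_ker] at c3
  have h5 : 0 < Nat.card (frattini Q₁) * Nat.card (frattini Q₂) := Nat.mul_pos Nat.card_pos Nat.card_pos
  have h6 : Nat.card P ≤ 4 * (Nat.card (frattini Q₁) * Nat.card (frattini Q₂)) :=
    c3 ▸ Nat.mul_le_mul hrange hker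
  have h7 : 9 * (Nat.card (frattini Q₁) * Nat.card (frattini Q₂)) ≤ Nat.card Q₁ * Nat.card Q₂ := by
    rw [← c1, ← c2, mul_mul_mul_comm]
    exact Nat.mul_le_mul_right _ (Nat.mul_le_mul f1 f2)
  omega

include hrad hfac hIH in
/-- A factorised proper subgroup contains no nontrivial normal subgroup. -/
theorem no_normal_in_proper (M : Subgroup G) (hM : M ≠ ⊤)
    (hMf : ∀ m ∈ M, ∃ a ∈ A, ∃ b ∈ B, a ∈ M ∧ b ∈ M ∧ m = a * b)
    (N : Subgroup G) [N.Normal] (hN : N ≠ ⊥) (hNM : N ≤ M) : False := by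
  classical
  -- a minimal normal subgroup
  obtain ⟨L, ⟨hLn, hL0, hLN⟩, hLmin⟩ := (Set.toFinite {L : Subgroup G | L.Normal ∧ L ≠ ⊥ ∧ L ≤ N}).exists_minimal
    ⟨N, inferInstance, hN, le_rfl⟩
  haveI := hLn
  have hmin : ∀ K : Subgroup G, K.Normal → K ≤ L → K ≠ ⊥ → K = L := fun K hK hKL hK0 =>
    le_antisymm hKL (hLmin ⟨hK, hK0, hKL.trans hLN⟩ hKL)
  have hLM : L ≤ M := hLN.trans hNM
  have hMns : ¬ Group.IsSolvable M := fun hs => hL0 (hrad L hLn
    (Group.isSolvable_of_isSolvable_injective (Subgroup.inclusion_injective hLM)))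
  have hlt : Nat.card M < Nat.card G := by
    refine lt_of_le_of_ne (Subgroup.card_le_card_group M) fun e => hM (Subgroup.eq_top_of_card_eq M e)
  obtain ⟨p, hp, hp3, π, hπ, hπs⟩ := hIH M _ _ hlt hMns (hfac.subgroup M hMf)
  haveI := Fact.mk hp
  haveI := hπs
  set ι : L →* M := Subgroup.inclusion hLM
  have hιn : ι.range.Normal := by
    refine ⟨fun x hx g => ?_⟩
    obtain ⟨x, rfl⟩ := hx
    exact ⟨⟨_, hLn.conj_mem x.1 x.2 g.1⟩, Subtype.ext rfl⟩
  have hinj : Function.Injective (π.comp ι) := by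
    rw [← MonoidHom.ker_eq_bot_iff]
    refine normal_in_normal_eq_bot hrad L _ ?_
    exact Group.isSolvable_of_isSolvable_injective
      (f := (ι.comp (π.comp ι).ker.subtype).codRestrict π.ker fun x => x.2)
      (fun x y e => Subtype.ext (Subgroup.inclusion_injective hLM (Subtype.ext_iff.1 e)))
  haveI himg : (π.comp ι).range.Normal := by
    rw [MonoidHom.range_comp]
    exact hιn.map π hπ
  have hple := psl_le_of_normal hp3 _ (show (π.comp ι).range ≠ ⊥ from fun e => hL0 (by
    refine (Subgroup.eq_bot_iff_forall L).2 fun x hx => ?_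
    have h1 : π.comp ι ⟨x, hx⟩ ∈ (π.comp ι).range := ⟨_, rfl⟩
    rw [e, Subgroup.mem_bot, ← map_one (π.comp ι)] at h1
    exact congrArg Subtype.val (hinj h1)))
  have hperf : ⁅L, L⁆ = L := hmin _ inferInstance (Subgroup.commutator_le_self L) fun e => hL0 (hrad L hLn
    (Group.isSolvable_of_comm fun x y => Subtype.ext
      (Subgroup.mem_centralizer_iff.1 ((Subgroup.commutator_eq_bot_iff_le_centralizer.1 e) y.2) x.1 x.2)))
  have hLpsl : (π.comp ι).range = CfsgLib.PSL2.pslRange (ZMod p) := by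
    refine le_antisymm ?_ hple
    have h2 : ∀ x y : Matrix.ProjGenLinGroup (Fin 2) (ZMod p), ⁅x, y⁆ ∈ CfsgLib.PSL2.pslRange (ZMod p) := by
      intro x y
      rw [commutatorElement_def, Subgroup.mul_mem_iff_of_index_two (index_psl hp3),
        Subgroup.mul_mem_iff_of_index_two (index_psl hp3), Subgroup.mul_mem_iff_of_index_two (index_psl hp3),
        Subgroup.inv_mem_iff, Subgroup.inv_mem_iff]
      tauto
    rintro _ ⟨x, rfl⟩
    have hx : x ∈ (⊤ : Subgroup ↥L) := Subgroup.mem_top _
    have htop : ⁅(⊤ : Subgroup L), (⊤ : Subgroup L)⁆ = (⊤ : Subgroup L) := by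
      apply Subgroup.map_injective L.subtype_injective
      rw [Subgroup.map_commutator, ← MonoidHom.range_eq_map, Subgroup.range_subtype, hperf]
    rw [← htop] at hx
    have hle : ⁅(⊤ : Subgroup L), (⊤ : Subgroup L)⁆ ≤ (CfsgLib.PSL2.pslRange (ZMod p)).comap (π.comp ι) :=
      Subgroup.commutator_le.2 fun a _ b _ => by
        rw [Subgroup.mem_comap, map_commutatorElement]; exact h2 _ _
    exact hle hx
  have hcardL : 2 * Nat.card L = (p + 1) * (p * (p - 1)) := by
    rw [Nat.card_congr (MonoidHom.ofInjective hinj).toEquiv, hLpsl, card_psl hp3]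
  have hcardM : (p + 1) * (p * (p - 1)) ≤ Nat.card M := by
    rw [← card_pgl hp3]
    exact Nat.card_le_card_of_surjective π hπ
  -- the Sylow `p`-subgroups of `L`
  obtain ⟨P⟩ : Nonempty (Sylow p L) := inferInstance
  have hPc : Nat.card P = p := by
    rw [P.card_eq_multiplicity]
    have e : (2 * Nat.card L).factorization p = 1 := by
      rw [hcardL]
      have h1 : ¬ p ∣ p + 1 := fun hd => by
        rw [Nat.dvd_add_self_left] at hd; exact hp.ne_one (Nat.dvd_one.1 hd)
      have h2 : ¬ p ∣ p - 1 := fun hd => by have := Nat.le_of_dvd (by omega) hd; omega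
      rw [Nat.factorization_mul (by omega) (Nat.mul_ne_zero (by omega) (by omega)), Finsupp.add_apply,
        Nat.factorization_mul (by omega) (by omega), Finsupp.add_apply, hp.factorization_self,
        Nat.factorization_eq_zero_of_not_dvd h1, Nat.factorization_eq_zero_of_not_dvd h2]
      simp
    rw [Nat.factorization_mul two_ne_zero Nat.card_pos.ne', Finsupp.add_apply,
      Nat.factorization_eq_zero_of_not_dvd (fun hd => by
        have := Nat.le_of_dvd two_pos hd; omega), zero_add] at e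
    rw [e, pow_one]
  have hnorm1 : Nat.card (Sylow p L) ≠ 1 := by
    intro e
    haveI : Subsingleton (Sylow p L) := (Nat.card_eq_one_iff_unique.1 e).1
    haveI : (P : Subgroup L).Normal := Sylow.normal_of_subsingleton P
    haveI : Group.IsSolvable P := by
      haveI : IsCyclic P := isCyclic_of_prime_card hPc
      infer_instance
    have h1 := normal_in_normal_eq_bot hrad L (P : Subgroup L) inferInstance
    rw [show (P : Subgroup L) = ⊥ from h1] at hPc
    simp at hPc
    omega
  have hnp : Nat.card (Sylow p L) = p + 1 := by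
    have h1 := card_sylow_modEq_one p L
    have h2 := P.card_dvd_index
    have h3 := (P : Subgroup L).index_mul_card
    rw [hPc] at h3
    obtain ⟨e, he⟩ := h2
    have h4 : 2 * (Nat.card (Sylow p L) * e) = (p + 1) * (p - 1) := by
      refine Nat.eq_of_mul_eq_mul_right hp.pos ?_
      rw [mul_assoc 2, ← he, h3, hcardL]; ring
    obtain ⟨k, hk⟩ : ∃ k, Nat.card (Sylow p L) = k * p + 1 := by
      refine ⟨Nat.card (Sylow p L) / p, ?_⟩
      have hmod : Nat.card (Sylow p L) % p = 1 := by rw [h1, Nat.mod_eq_of_lt hp.one_lt]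
      have := Nat.div_add_mod (Nat.card (Sylow p L)) p
      rw [mul_comm]; omega
    have hk1 : 1 ≤ k := by
      rcases Nat.eq_zero_or_pos k with rfl | h
      · simp at hk; exact absurd hk hnorm1
      · exact h
    rw [hk] at h4 ⊢
    have hdvd : p ∣ 2 * e + 1 := by
      have h5 : ((2 * ((k * p + 1) * e) : ℕ) : ZMod p) = (((p + 1) * (p - 1) : ℕ) : ZMod p) := by rw [h4]
      rw [← ZMod.natCast_eq_zero_iff]
      push_cast [Nat.cast_sub (show 1 ≤ p by omega)] at h5
      simp at h5
      push_cast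
      linear_combination h5
    have hep : p ≤ 2 * e + 1 := Nat.le_of_dvd (by omega) hdvd
    have hk2 : k < 2 := by
      by_contra hge
      push Not at hge
      have h6 : (2 * p + 1) * (p - 1) ≤ (k * p + 1) * (2 * e) :=
        Nat.mul_le_mul (by have := Nat.mul_le_mul_right p hge; omega) (by omega)
      have h7 : (k * p + 1) * (2 * e) = (p + 1) * (p - 1) := by rw [← h4]; ring
      rw [h7] at h6
      have := Nat.le_of_mul_le_mul_right h6 (by omega)
      omega
    have : k = 1 := by omega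
    rw [this, one_mul]
  -- the action of `G` on them
  letI act : MulAction G (Sylow p L) := MulAction.compHom _ (MulAut.conjNormal : G →* MulAut L)
  have hact : ∀ (g : G) (Q : Sylow p L), g • Q = (MulAut.conjNormal g : MulAut L) • Q := fun _ _ => rfl
  have hactL : ∀ (x : L) (Q : Sylow p L), (x : G) • Q = x • Q := fun x Q => by
    show (MulAut.conjNormal (x : G) : MulAut L) • Q = MulAut.conj x • Q
    congr 1
    ext y
    simp [MulAut.conjNormal_apply, MulAut.conj_apply]
  have hker : ∀ g : G, (∀ Q : Sylow p L, g • Q = Q) → g = 1 := by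
    set Kr := (MulAction.toPermHom G (Sylow p L)).ker with hKr
    have hKL : Kr ⊓ L = ⊥ := by
      by_contra hne
      have e := hmin _ inferInstance inf_le_right hne
      haveI : (P : Subgroup L).Normal := by
        rw [← Subgroup.normalizer_eq_top_iff, eq_top_iff]
        intro x _
        have hx : (x : G) ∈ Kr ⊓ L := by rw [e]; exact x.2
        have h1 : (x : G) • P = P := Equiv.ext_iff.1 (MonoidHom.mem_ker.1 hx.1) P
        rw [hactL] at h1
        exact Sylow.smul_eq_iff_mem_normalizer.1 h1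
      haveI := Sylow.unique_of_normal P ‹_›
      exact hnorm1 Nat.card_unique
    have hKbot : Kr = ⊥ := by
      refine le_bot_iff.1 (le_trans ?_ (centralizer_eq_bot hrad hfac hIH L hL0).le)
      exact Subgroup.commutator_eq_bot_iff_le_centralizer.1
        (le_bot_iff.1 ((Subgroup.commutator_le_inf Kr L).trans hKL.le))
    intro g hg
    have : g ∈ Kr := MonoidHom.mem_ker.2 (Equiv.ext hg)
    rwa [hKbot, Subgroup.mem_bot] at this
  -- orbits of `P`
  have hPother : ∀ Q : Sylow p L, Q ≠ P → ∀ R : Sylow p L, R ≠ P → ∃ x ∈ (P : Subgroup L), x • Q = R := by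
    intro Q hQ R hR
    haveI : Fintype (Sylow p L) := Fintype.ofFinite _
    by_contra hne
    have horb : ∀ T : Sylow p L, T ≠ P → Nat.card (orbit P T) = p := by
      intro T hT
      have h1 : Nat.card (orbit P T) * Nat.card (stabilizer P T) = Nat.card P := by
        rw [Nat.card_congr (MulAction.orbitEquivQuotientStabilizer P T)]
        exact (Subgroup.card_eq_card_quotient_mul_card_subgroup _).symm
      rw [hPc] at h1
      rcases (Nat.dvd_prime hp).1 ⟨_, h1.symm⟩ with h2 | h2
      swap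
      · exact h2
      exfalso
      have hfix : ∀ x : P, (x : L) • T = T := fun x => by
        have hs : Subsingleton (orbit P T) := (Nat.card_eq_one_iff_unique.1 h2).1
        exact congrArg Subtype.val (@Subsingleton.elim _ hs ⟨x • T, mem_orbit T x⟩ ⟨T, mem_orbit_self T⟩)
      have h3 : (P : Subgroup L) ≤ (T : Subgroup L) := by
        have h4 := P.2.inf_normalizer_sylow T
        rw [inf_eq_left.2 (fun x hx => Sylow.smul_eq_iff_mem_normalizer.1 (hfix ⟨x, hx⟩))] at h4
        rw [h4]; exact inf_le_right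
      exact hT (Sylow.ext (P.3 T.2 h3))
    have hdisj : Disjoint (orbit P Q) (orbit P R) := by
      refine Set.disjoint_left.2 fun T hTQ hTR => hne ?_
      obtain ⟨x, hx⟩ := hTQ
      obtain ⟨y, hy⟩ := hTR
      refine ⟨(y⁻¹ * x : P), (y⁻¹ * x).2, ?_⟩
      show (y⁻¹ * x) • Q = R
      rw [mul_smul, show x • Q = T from hx, ← hy, inv_smul_smul]
    have hP_not : P ∉ orbit P Q ∪ orbit P R := by
      rintro (⟨x, hx⟩ | ⟨x, hx⟩)
      · exact hQ (smul_left_cancel x (hx.trans (Sylow.smul_eq_iff_mem_normalizer.2 (Subgroup.le_normalizer x.2)).symm))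
      · exact hR (smul_left_cancel x (hx.trans (Sylow.smul_eq_iff_mem_normalizer.2 (Subgroup.le_normalizer x.2)).symm))
    have hcu : (insert P (orbit P Q ∪ orbit P R)).ncard ≤ Nat.card (Sylow p L) :=
      Set.ncard_le_card _
    rw [Set.ncard_insert_of_notMem hP_not, Set.ncard_union_eq hdisj, ← Nat.card_coe_set_eq,
      ← Nat.card_coe_set_eq, horb Q hQ, horb R hR, hnp] at hcu
    omega
  obtain ⟨Q, hQ⟩ : ∃ Q : Sylow p L, Q ≠ P := by
    by_contra hc
    push Not at hc
    haveI : Subsingleton (Sylow p L) := ⟨fun a b => (hc a).trans (hc b).symm⟩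
    exact hnorm1 (Nat.card_eq_one_iff_unique.2 ⟨this, ⟨P⟩⟩)
  have hG : Nat.card G ≤ (p + 1) * (p * (p - 1)) := by
    haveI : Fintype (Sylow p L) := Fintype.ofFinite _
    set S := stabilizer G P
    have h1 : Nat.card G ≤ (p + 1) * Nat.card S := by
      rw [← S.index_mul_card]
      refine Nat.mul_le_mul_right _ ?_
      rw [Subgroup.index, ← Nat.card_congr (MulAction.orbitEquivQuotientStabilizer G P), ← hnp]
      exact Finite.card_subtype_le _
    set T := stabilizer S Q
    have h2 : Nat.card S ≤ p * Nat.card T := by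
      rw [← T.index_mul_card]
      refine Nat.mul_le_mul_right _ ?_
      rw [Subgroup.index, ← Nat.card_congr (MulAction.orbitEquivQuotientStabilizer S Q)]
      let F : orbit S Q → {R : Sylow p L // R ≠ P} := fun R => ⟨R.1, by
        obtain ⟨s, hs⟩ := R.2
        intro e
        exact hQ (smul_left_cancel (s : G) ((hs.trans e).trans s.2.symm))⟩
      refine le_trans (Nat.card_le_card_of_injective F fun a b e => Subtype.ext (Subtype.ext_iff.1 e :)) ?_
      rw [Nat.card_eq_fintype_card, Fintype.card_subtype_compl, Fintype.card_subtype_eq,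
        ← Nat.card_eq_fintype_card, hnp]
      omega
    have h3 : Nat.card T ≤ p - 1 := by
      haveI : IsCyclic P := isCyclic_of_prime_card hPc
      have hPconj : ∀ (t : T) (x : L), x ∈ (P : Subgroup L) →
          (MulAut.conjNormal ((t : S) : G) : MulAut L) x ∈ (P : Subgroup L) := by
        intro t x hx
        have := Subgroup.smul_mem_pointwise_smul x (MulAut.conjNormal ((t : S) : G) : MulAut L) _ hx
        rwa [← Sylow.pointwise_smul_def, ← hact, show ((t : S) : G) • P = P from (t : S).2] at this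
      let F : T → {y : P // y ≠ 1} := fun t =>
        ⟨⟨_, hPconj t (IsCyclic.exists_generator (α := P)).choose.1 (IsCyclic.exists_generator (α := P)).choose.2⟩,
          fun e => by
            have e1 := congrArg Subtype.val e
            simp only [OneMemClass.coe_one, EmbeddingLike.map_eq_one_iff] at e1
            have hg := (IsCyclic.exists_generator (α := P)).choose_spec
            have e2 : (IsCyclic.exists_generator (α := P)).choose = 1 := Subtype.ext e1
            rw [e2] at hg
            have : Subsingleton P := ⟨fun a b => by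
              have ha := hg a; have hb := hg b
              simp [Subgroup.zpowers_one_eq_bot] at ha hb
              rw [ha, hb]⟩
            have := Finite.card_le_one_iff_subsingleton.2 this
            rw [hPc] at this
            omega⟩
      have hFinj : Function.Injective F := by
        intro t t' e
        set g := (IsCyclic.exists_generator (α := P)).choose
        have hg : ∀ x : P, x ∈ Subgroup.zpowers g := (IsCyclic.exists_generator (α := P)).choose_spec
        have e1 : (MulAut.conjNormal ((t : S) : G) : MulAut L) g.1 = (MulAut.conjNormal ((t' : S) : G) : MulAut L) g.1 :=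
          congrArg (fun y : {y : P // y ≠ 1} => (y.1 : L)) e
        set k : G := (((t' : S) : G))⁻¹ * ((t : S) : G) with hk
        have hkg : (MulAut.conjNormal k : MulAut L) g.1 = g.1 := by
          rw [hk, map_mul, MulAut.mul_apply, e1, map_inv, MulAut.inv_apply, MulEquiv.symm_apply_apply]
        have hkP : ∀ x ∈ (P : Subgroup L), (MulAut.conjNormal k : MulAut L) x = x := by
          intro x hx
          obtain ⟨m, hm⟩ := Subgroup.mem_zpowers_iff.1 (hg ⟨x, hx⟩)
          have hm' : g.1 ^ m = x := congrArg Subtype.val hm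
          rw [← hm', map_zpow, hkg]
        have hkQ : k • Q = Q := by
          rw [hk, mul_smul, show ((t : S) : G) • Q = Q from t.2, inv_smul_eq_iff]
          exact t'.2.symm
        have hk1 : k = 1 := by
          refine hker k fun R => ?_
          by_cases hR : R = P
          · rw [hR, hk, mul_smul, show ((t : S) : G) • P = P from (t : S).2, inv_smul_eq_iff]
            exact (t' : S).2.symm
          obtain ⟨x, hx, hxR⟩ := hPother Q hQ R hR
          rw [← hxR, ← hactL, ← mul_smul]
          have hkx : k * (x : G) = (x : G) * k := by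
            have := congrArg Subtype.val (hkP x hx)
            rw [MulAut.conjNormal_apply, mul_inv_eq_iff_eq_mul] at this
            exact this
          rw [hkx, mul_smul, hkQ]
        rw [hk, inv_mul_eq_one] at hk1
        exact Subtype.ext (Subtype.ext hk1.symm)
      have hle := Nat.card_le_card_of_injective F hFinj
      haveI : Fintype P := Fintype.ofFinite _
      rw [Nat.card_eq_fintype_card (α := {y : P // y ≠ 1}), Fintype.card_subtype_compl, Fintype.card_subtype_eq,
        ← Nat.card_eq_fintype_card] at hle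
      exact le_trans hle (Nat.sub_le_sub_right (le_of_eq hPc) 1)
    calc Nat.card G ≤ (p + 1) * Nat.card S := h1
      _ ≤ (p + 1) * (p * Nat.card T) := Nat.mul_le_mul_left _ h2
      _ ≤ (p + 1) * (p * (p - 1)) := Nat.mul_le_mul_left _ (Nat.mul_le_mul_left _ h3)
  omega

end

end CfsgLib.CyclicTimesZ
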