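import Cfsg.Agent.Lib.CyclicTimesZ.Main
import Cfsg.Agent.Lib.CyclicTimesZ.Reduction
import Cfsg.Agent.Lib.Perm.SchurCyclic
import Cfsg.Agent.Lib.Perm.ZassG.PGL
import Cfsg.Agent.Lib.FgsC.Basic
import Cfsg.Agent.S0675
import Cfsg.Agent.S3972

/-!
A nonsolvable product of a cyclic group and a group with cyclic Sylow subgroups is `PGL(2, p)` modulo
its solvable radical.
-/

open MulAction
open scoped commutatorElement

set_option linter.style.haveILetI false
set_option linter.unusedSectionVars false

namespace CfsgLib.CyclicTimesZ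

universe w

/-- The sign of a permutation that is a single cycle on `s`. -/
theorem sign_of_cycle {G Ω : Type*} [Group G] [MulAction G Ω] [Fintype Ω] [DecidableEq Ω] (g : G)
    (s : Finset Ω) (hs : s.Nonempty) (h1 : ∀ x ∈ s, g • x ≠ x) (h2 : ∀ x, x ∉ s → g • x = x)
    (h3 : ∀ x ∈ s, ∀ y ∈ s, ∃ k : ℤ, g ^ k • x = y) :
    Equiv.Perm.sign (MulAction.toPermHom G Ω g) = -(-1) ^ s.card := by
  set π := MulAction.toPermHom G Ω g with hπ
  have hsupp : π.support = s := by
    ext x
    rw [Equiv.Perm.mem_support]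
    exact ⟨fun h => by_contra fun hx => h (h2 x hx), fun h => h1 x h⟩
  obtain ⟨x, hx⟩ := hs
  have hcyc : π.IsCycle := ⟨x, h1 x hx, fun y hy => by
    obtain ⟨k, hk⟩ := h3 x hx y (hsupp ▸ Equiv.Perm.mem_support.2 hy)
    exact ⟨k, by rw [hπ, ← map_zpow]; exact hk⟩⟩
  rw [hcyc.sign, hsupp]

section

variable {G : Type w} [Group G] [Finite G] {A B : Subgroup G}
  (hns : ¬ Group.IsSolvable G)
  (hrad : ∀ N : Subgroup G, N.Normal → Group.IsSolvable N → N = ⊥)
  (hfac : Fac A B)
  (hIH : ∀ (H : Type w) [Group H] [Finite H] (A' B' : Subgroup H),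
    Nat.card H < Nat.card G → ¬ Group.IsSolvable H → Fac A' B' → Conc H)
include hns hrad hfac hIH

theorem conc_of_radical_free : Conc G := by
  classical
  have := Fintype.ofFinite G
  haveI := hfac.hA
  haveI := hfac.hB
  -- `B` is a maximal subgroup
  have hBtop : B ≠ ⊤ := fun e => hns (by
    haveI : Group.IsSolvable (⊤ : Subgroup G) := e ▸ (inferInstance : Group.IsSolvable B)
    exact Group.isSolvable_of_surjective (f := (⊤ : Subgroup G).subtype) fun x => ⟨⟨x, trivial⟩, rfl⟩)
  have hsplit : ∀ M : Subgroup G, B ≤ M → ∀ m ∈ M, ∃ a ∈ A, ∃ b ∈ B, a ∈ M ∧ b ∈ M ∧ m = a * b := by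
    intro M hBM m hm
    obtain ⟨x, hx, b, hb, rfl⟩ := hfac.mul m
    exact ⟨x, hx, b, hb, by simpa using M.mul_mem hm (M.inv_mem (hBM hb)), hBM hb, rfl⟩
  have hsplitA : ∀ M : Subgroup G, A ≤ M → ∀ m ∈ M, ∃ a ∈ A, ∃ b ∈ B, a ∈ M ∧ b ∈ M ∧ m = a * b := by
    intro M hAM m hm
    obtain ⟨x, hx, b, hb, rfl⟩ := hfac.mul m
    exact ⟨x, hx, b, hb, hAM hx, by simpa [← mul_assoc] using M.mul_mem (M.inv_mem (hAM hx)) hm, rfl⟩
  have hA1 : A ≠ ⊥ := fun e => hBtop (eq_top_iff.2 fun g _ => by
    obtain ⟨x, hx, b, hb, rfl⟩ := hfac.mul g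
    rw [e, Subgroup.mem_bot] at hx
    rwa [hx, one_mul])
  have no_normal_A : ∀ M : Subgroup G, M.Normal → A ≤ M → M = ⊤ := fun M hMn hAM => by
    by_contra hM
    exact no_normal_in_proper hrad hfac hIH M hM (hsplitA M hAM) M
      (fun e => hA1 (le_bot_iff.1 (e ▸ hAM))) le_rfl
  have hmax : IsCoatom B := by
    refine ⟨hBtop, fun M hBM => by_contra fun hM => ?_⟩
    obtain ⟨m, hm, hmB⟩ := SetLike.exists_of_lt hBM
    obtain ⟨x, hx, b, hb, rfl⟩ := hfac.mul m
    have hxM : x ∈ M := by simpa using M.mul_mem hm (M.inv_mem (hBM.le hb))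
    have hxB : x ∉ B := fun h => hmB (B.mul_mem h hb)
    refine no_normal_in_proper hrad hfac hIH M hM (hsplit M hBM.le) (Subgroup.normalClosure ((A : Set G) ∩ M))
      (fun e => ?_) (normalClosure_inter_le hfac M hBM.le)
    have h1 : x ∈ Subgroup.normalClosure ((A : Set G) ∩ M) := Subgroup.subset_normalClosure ⟨hx, hxM⟩
    rw [e, Subgroup.mem_bot] at h1
    exact hxB (h1 ▸ B.one_mem)
  -- the action on the cosets of `B`
  let Ω := G ⧸ B
  haveI : Fintype Ω := Fintype.ofFinite _
  let a : Ω := ((1 : G) : G ⧸ B)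
  have hstab : stabilizer G a = B := MulAction.stabilizer_quotient B
  have hfaith : ∀ g : G, (∀ x : Ω, g • x = x) → g = 1 := by
    intro g hg
    have h1 : B.normalCore = ⊥ := hrad _ inferInstance
      (Group.isSolvable_of_isSolvable_injective (Subgroup.inclusion_injective B.normalCore_le))
    have h2 : g ∈ B.normalCore := by
      rw [Subgroup.normalCore_eq_ker, MonoidHom.mem_ker]
      exact Equiv.ext hg
    rwa [h1, Subgroup.mem_bot] at h2
  have hperm : Function.Injective (MulAction.toPermHom G Ω) := by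
    rw [injective_iff_map_eq_one]
    exact fun g hg => hfaith g (Equiv.ext_iff.1 hg)
  have hAtrans : ∀ x y : Ω, ∃ α ∈ A, α • x = y := by
    have h0 : ∀ x : Ω, ∃ α ∈ A, α • a = x := fun x => by
      obtain ⟨g, rfl⟩ := QuotientGroup.mk_surjective x
      obtain ⟨α, hα, b, hb, rfl⟩ := hfac.mul g
      refine ⟨α, hα, ?_⟩
      have hb' : b • a = a := (hstab.symm ▸ hb : b ∈ stabilizer G a)
      calc α • a = α • b • a := by rw [hb']
        _ = _ := by rw [← mul_smul]; exact congrArg (QuotientGroup.mk : G → G ⧸ B) (mul_one (α * b))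
    intro x y
    obtain ⟨α, hα, rfl⟩ := h0 x
    obtain ⟨β, hβ, rfl⟩ := h0 y
    exact ⟨β * α⁻¹, A.mul_mem hβ (A.inv_mem hα), by rw [mul_smul, inv_smul_smul]⟩
  letI : CommGroup A := IsCyclic.commGroup
  have hAcomm : ∀ {x y : G}, x ∈ A → y ∈ A → x * y = y * x := fun {x y} hx hy =>
    congrArg Subtype.val (mul_comm (⟨x, hx⟩ : A) ⟨y, hy⟩)
  have hAfree : ∀ α ∈ A, ∀ x : Ω, α • x = x → α = 1 := by
    intro α hα x hx
    refine hfaith α fun y => ?_
    obtain ⟨β, hβ, rfl⟩ := hAtrans x y
    rw [← mul_smul, hAcomm hα hβ, mul_smul, hx]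
  have hmemB : ∀ g : G, g ∈ B ↔ g • a = a := fun g =>
    (SetLike.ext_iff.1 hstab g).symm.trans mem_stabilizer_iff
  haveI htr : MulAction.IsPretransitive G Ω := inferInstance
  haveI : Nontrivial Ω := QuotientGroup.nontrivial_iff.2 hBtop
  have hprim : MulAction.IsPreprimitive G Ω :=
    (isCoatom_stabilizer_iff_preprimitive G a).1 (hstab.symm ▸ hmax)
  set n := Nat.card Ω with hn
  have hn5 : 5 ≤ n := by
    by_contra hlt
    exact hns (CfsgLib.FgsC.isSolvable_of_injective_perm (α := Ω) (by omega) _ hperm)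
  have hAn : Nat.card A = n := by
    refine Nat.card_congr (Equiv.ofBijective (fun α : A => (α : G) • a) ⟨fun α β e => ?_, fun x => ?_⟩)
    · exact Subtype.ext (inv_mul_eq_one.1 (hAfree _ (A.mul_mem (A.inv_mem β.2) α.2) a
        (by rw [mul_smul]; exact (congrArg (fun x => (β : G)⁻¹ • x) e).trans (inv_smul_smul _ _)))).symm
    · obtain ⟨α, hα, e⟩ := hAtrans a x
      exact ⟨⟨α, hα⟩, e⟩
  obtain ⟨α₀, hα₀⟩ := IsCyclic.exists_generator (α := A)
  have hα₀o : orderOf (α₀ : G) = n := by
    rw [Subgroup.orderOf_coe, orderOf_eq_card_of_forall_mem_zpowers hα₀, hAn]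
  -- double transitivity
  have h2t : MulAction.IsMultiplyPretransitive G Ω 2 := by
    let e : G →* (MulAction.toPermHom G Ω).range := (MulAction.toPermHom G Ω).rangeRestrict
    have heap : ∀ (g : G) (x : Ω), (e g) • x = g • x := fun g x => rfl
    haveI : MulAction.IsPretransitive (MulAction.toPermHom G Ω).range Ω :=
      ⟨fun x y => by obtain ⟨g, hg⟩ := exists_smul_eq G x y; exact ⟨e g, by rw [heap, hg]⟩⟩
    have hback : MulAction.IsMultiplyPretransitive (MulAction.toPermHom G Ω).range Ω 2 →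
        MulAction.IsMultiplyPretransitive G Ω 2 := fun h => by
      rw [MulAction.is_two_pretransitive_iff] at h ⊢
      intro x y v w hxy hvw
      obtain ⟨g, hgx, hgy⟩ := h hxy hvw
      obtain ⟨g, rfl⟩ := (MulAction.toPermHom G Ω).rangeRestrict_surjective g
      exact ⟨g, hgx, hgy⟩
    by_cases hp : n.Prime
    · rcases Cfsg.Agent.S0675.result (α := Ω) (by rw [← Nat.card_eq_fintype_card]; exact hp)
        (MulAction.toPermHom G Ω).range with h | h
      · refine absurd ?_ hns
        haveI := h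
        exact Group.isSolvable_of_isSolvable_injective (f := e)
          ((MulAction.toPermHom G Ω).rangeRestrict_injective_iff.2 hperm)
      · exact hback h
    by_cases hpp : IsPrimePow n
    · obtain ⟨q, m, hq, hm, hqm⟩ := (isPrimePow_nat_iff n).1 hpp
      have hm2 : 2 ≤ m := by
        by_contra hlt
        obtain rfl : m = 1 := by omega
        exact hp (by rw [← hqm, pow_one]; exact hq)
      refine hback (by_contra fun h2 => ?_)
      refine (Cfsg.Agent.S3972.result q m hq hm2 (by rw [← Nat.card_eq_fintype_card, ← hn, hqm])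
        (MulAction.toPermHom G Ω).range inferInstance h2 (e α₀)
        (by rw [orderOf_injective e ((MulAction.toPermHom G Ω).rangeRestrict_injective_iff.2 hperm), hα₀o,
          hqm])).1 ?_
      haveI := hprim
      exact MulAction.IsPreprimitive.of_surjective (f := ({ toFun := id, map_smul' := fun g x => rfl } : Ω →ₑ[e] Ω))
        Function.surjective_id
    · rcases CfsgLib.Perm.SchurCyclic.imprimitive_or_two_transitive (G := G) (Ω := Ω) (by omega) hpp A
        inferInstance ⟨⟨fun x y => by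
          obtain ⟨α, hα, h⟩ := hAtrans x y
          exact ⟨⟨α, hα⟩, h⟩⟩, fun x => (Subgroup.eq_bot_iff_forall _).2 fun α hα =>
            Subtype.ext (hAfree α α.2 x hα)⟩ with h | h
      · exact absurd hprim h
      · exact h
  have htwo : ∀ {x y v w : Ω}, x ≠ y → v ≠ w → ∃ g : G, g • x = v ∧ g • y = w :=
    fun {x y v w} hxy hvw => (MulAction.is_two_pretransitive_iff.1 h2t) hxy hvw
  -- the commutator subgroup of `B`
  set C : Subgroup G := (commutator B).map B.subtype with hC
  have hCB : C ≤ B := Subgroup.map_subtype_le _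
  have hCfix : ∀ c ∈ C, c • a = a := fun c hc => (hstab.symm ▸ hCB hc : c ∈ stabilizer G a)
  have hCcyc : IsCyclic C := by
    haveI := IsZGroup.isCyclic_commutator B
    exact isCyclic_of_surjective _ (B.subtype.subgroupMap_surjective (commutator B))
  have hCnorm : ∀ g : G, g • a = a → ∀ c ∈ C, g * c * g⁻¹ ∈ C := by
    rintro g hg _ ⟨c, hc, rfl⟩
    have hgB : g ∈ B := hstab ▸ hg
    exact ⟨⟨g, hgB⟩ * c * ⟨g, hgB⟩⁻¹, (inferInstance : (commutator B).Normal).conj_mem c hc ⟨g, hgB⟩, rfl⟩
  have hCfree : ∀ c ∈ C, ∀ x : Ω, x ≠ a → c • x = x → c = 1 := by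
    intro c hc x hx hcx
    refine hfaith c fun y => ?_
    rcases eq_or_ne y a with rfl | hy
    · exact hCfix c hc
    obtain ⟨g, hga, hgx⟩ := htwo hx.symm hy.symm
    have hc' : g⁻¹ * c * g ∈ C := by
      simpa using hCnorm g⁻¹ (inv_smul_eq_iff.2 hga.symm) c hc
    have ho : orderOf (g⁻¹ * c * g) = orderOf c := by
      simpa using orderOf_injective (MulAut.conj g⁻¹).toMonoidHom (MulAut.conj g⁻¹).injective c
    obtain ⟨k, hk⟩ := Subgroup.mem_zpowers_iff.1 (mem_zpowers_of_orderOf_eq hCcyc hc' hc ho)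
    have h1 : (g⁻¹ * c * g) • x = x := by
      rw [← hk]
      exact (stabilizer G x).zpow_mem hcx k
    rw [mul_smul, mul_smul, hgx, inv_smul_eq_iff, hgx] at h1
    exact h1
  set b₀ : Ω := (α₀ : G) • a with hb₀def
  have hb₀ : b₀ ≠ a := fun e => by
    have h1 := hAfree α₀ α₀.2 a e
    rw [h1, orderOf_one] at hα₀o
    omega
  have hDcyc : ∀ b : Ω, b ≠ a → IsCyclic ↥(stabilizer G a ⊓ stabilizer G b) := by
    intro b hb
    let f : ↥(stabilizer G a ⊓ stabilizer G b) →* Abelianization B :=
      Abelianization.of.comp ((stabilizer G a ⊓ stabilizer G b).subtype.codRestrict B fun d => (hmemB _).2 d.2.1)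
    refine isCyclic_of_injective f ?_
    rw [← MonoidHom.ker_eq_bot_iff, Subgroup.eq_bot_iff_forall]
    intro d hd
    have h1 : (⟨(d : G), (hmemB _).2 d.2.1⟩ : B) ∈ commutator B := by
      rw [← Abelianization.ker_of B]; exact hd
    exact Subtype.ext (hCfree d ⟨_, h1, rfl⟩ b hb d.2.2)
  have hBcard : Nat.card G = n * Nat.card B := by rw [← hAn, card_eq_mul hrad hfac]
  -- `C` is transitive on the other points
  have hCtrans : ∀ x y : Ω, x ≠ a → y ≠ a → ∃ c ∈ C, c • x = y := by
    intro x y hx hy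
    by_contra hno
    set D := stabilizer G a ⊓ stabilizer G x with hD
    set l := ((commutator B).index) with hl
    have hC1 : Nat.card C = Nat.card (commutator B) :=
      (Nat.card_congr (Subgroup.equivMapOfInjective _ _ B.subtype_injective).toEquiv).symm
    have hidx : Nat.card C * l = Nat.card B := by rw [hC1]; exact (commutator B).card_mul_index
    have hBD : Nat.card B = (n - 1) * Nat.card D := by
      let f : B → {v : Ω // v ≠ a} := fun g => ⟨(g : G) • x, fun e => hx (smul_left_cancel (g : G)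
        (e.trans ((hstab.symm ▸ g.2 : (g : G) ∈ stabilizer G a) : (g : G) • a = a).symm))⟩
      let e : B ≃ {v : Ω // v ≠ a} × D := by
        have hsel : ∀ v : {v : Ω // v ≠ a}, ∃ g : G, g • a = a ∧ g • x = v.1 := fun v => htwo hx.symm v.2.symm
        choose sel hsel using hsel
        refine
          { toFun := fun g => (f g, ⟨(sel (f g))⁻¹ * g, ?_, ?_⟩)
            invFun := fun q => ⟨sel q.1 * q.2, B.mul_mem ((hmemB _).2 (hsel q.1).1) ((hmemB _).2 q.2.2.1)⟩
            left_inv := fun g => Subtype.ext (mul_inv_cancel_left _ _)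
            right_inv := fun q => ?_ }
        · show ((sel (f g))⁻¹ * (g : G)) • a = a
          rw [mul_smul, ((hstab.symm ▸ g.2 : (g : G) ∈ stabilizer G a) : (g : G) • a = a), inv_smul_eq_iff,
            (hsel _).1]
        · show ((sel (f g))⁻¹ * (g : G)) • x = x
          rw [mul_smul, inv_smul_eq_iff, (hsel _).2]
        · have e1 : f ⟨sel q.1 * q.2, B.mul_mem ((hmemB _).2 (hsel q.1).1) ((hmemB _).2 q.2.2.1)⟩ = q.1 :=
            Subtype.ext (show (sel q.1 * (q.2 : G)) • x = q.1.1 by
              rw [mul_smul, show (q.2 : G) • x = x from q.2.2.2, (hsel _).2])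
          refine Prod.ext e1 (Subtype.ext ?_)
          simp only
          rw [e1, inv_mul_cancel_left]
      rw [Nat.card_congr e, Nat.card_prod, Nat.card_eq_fintype_card (α := {v : Ω // v ≠ a}),
        Fintype.card_subtype_compl, Fintype.card_subtype_eq, ← Nat.card_eq_fintype_card, hn]
    have hClt : Nat.card C < n - 1 := by
      let F : C → {v : {v : Ω // v ≠ a} // v.1 ≠ y} := fun c =>
        ⟨⟨(c : G) • x, fun e => hx (smul_left_cancel (c : G) (e.trans (hCfix c c.2).symm))⟩,
          fun e => hno ⟨c, c.2, e⟩⟩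
      have hF : Function.Injective F := fun c d e => by
        have e' : (c : G) • x = (d : G) • x := Subtype.ext_iff.1 (Subtype.ext_iff.1 e)
        exact Subtype.ext (inv_mul_eq_one.1 (hCfree _ (C.mul_mem (C.inv_mem d.2) c.2) x hx
          (by rw [mul_smul, e', inv_smul_smul]))).symm
      have h1 := Nat.card_le_card_of_injective F hF
      have h2 : Nat.card {v : {v : Ω // v ≠ a} // v.1 ≠ y} < Nat.card {v : Ω // v ≠ a} := by
        rw [Nat.card_eq_fintype_card, Nat.card_eq_fintype_card]
        exact Fintype.card_subtype_lt (x := ⟨y, hy⟩) (by simp)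
      rw [Nat.card_eq_fintype_card (α := {v : Ω // v ≠ a}), Fintype.card_subtype_compl, Fintype.card_subtype_eq,
        ← Nat.card_eq_fintype_card, ← hn] at h2
      omega
    have hDl : Nat.card D ∣ l := by
      let f : D →* Abelianization B :=
        Abelianization.of.comp (D.subtype.codRestrict B fun d => (hmemB _).2 d.2.1)
      have hf : Function.Injective f := by
        rw [← MonoidHom.ker_eq_bot_iff, Subgroup.eq_bot_iff_forall]
        intro d hd
        have h1 : (⟨(d : G), (hmemB _).2 d.2.1⟩ : B) ∈ commutator B := by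
          rw [← Abelianization.ker_of B]; exact hd
        exact Subtype.ext (hCfree d ⟨_, h1, rfl⟩ x hx d.2.2)
      rw [Nat.card_congr (MonoidHom.ofInjective hf).toEquiv]
      exact Subgroup.card_subgroup_dvd_card _
    obtain ⟨l', hl'⟩ := hDl
    have hCl : Nat.card C * l' = n - 1 := by
      refine Nat.eq_of_mul_eq_mul_right (Nat.card_pos (α := D)) ?_
      rw [← hBD, ← hidx, hl']; ring
    have hl'1 : l' ≠ 1 := fun e => by rw [e, mul_one] at hCl; omega
    obtain ⟨r, hr, hrl⟩ := Nat.exists_prime_and_dvd hl'1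
    haveI := Fact.mk hr
    have hrC : ¬ r ∣ Nat.card C := fun hd => by
      have hcop : (Nat.card (commutator B)).Coprime (commutator B).index := IsZGroup.coprime_commutator_index B
      exact hr.one_lt.ne' (Nat.eq_one_of_dvd_coprimes hcop (hC1 ▸ hd) (hl ▸ hl' ▸ dvd_mul_of_dvd_right hrl _))
    have hrn1 : r ∣ n - 1 := hCl ▸ dvd_mul_of_dvd_right hrl _
    have hrn : ¬ r ∣ n := fun hd => by
      have := Nat.dvd_sub hd hrn1
      rw [show n - (n - 1) = 1 by omega] at this
      exact hr.one_lt.ne' (Nat.dvd_one.1 this)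
    obtain ⟨R₀⟩ : Nonempty (Sylow r B) := inferInstance
    have hfact : (Nat.card G).factorization r = (Nat.card B).factorization r := by
      rw [hBcard, Nat.factorization_mul (by omega) Nat.card_pos.ne', Finsupp.add_apply,
        Nat.factorization_eq_zero_of_not_dvd hrn, zero_add]
    let R : Sylow r G := Sylow.ofCard ((R₀ : Subgroup B).map B.subtype) (by
      rw [← Nat.card_congr (Subgroup.equivMapOfInjective _ _ B.subtype_injective).toEquiv, R₀.card_eq_multiplicity,
        hfact])
    have hRB : (R : Subgroup G) ≤ B := Subgroup.map_subtype_le _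
    have hRfix : ∀ v : Ω, (∀ g ∈ (R : Subgroup G), g • v = v) → v = a := by
      intro v hv
      by_contra hva
      have hle : (R : Subgroup G) ≤ stabilizer G a ⊓ stabilizer G v := fun g hg =>
        ⟨hstab.symm ▸ hRB hg, hv g hg⟩
      have h1 := Subgroup.card_dvd_of_le hle
      obtain ⟨g, hga, hgv⟩ := htwo hx.symm (Ne.symm hva)
      have h2 : Nat.card ↥(stabilizer G a ⊓ stabilizer G v) = Nat.card D := by
        refine Nat.card_congr
          { toFun := fun d => ⟨g⁻¹ * d * g, ?_, ?_⟩
            invFun := fun d => ⟨g * d * g⁻¹, ?_, ?_⟩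
            left_inv := fun d => Subtype.ext (by simp [mul_assoc])
            right_inv := fun d => Subtype.ext (by simp [mul_assoc]) }
        · show (g⁻¹ * (d : G) * g) • a = a
          rw [mul_smul, mul_smul, hga, show (d : G) • a = a from d.2.1, inv_smul_eq_iff, hga]
        · show (g⁻¹ * (d : G) * g) • x = x
          rw [mul_smul, mul_smul, hgv, show (d : G) • v = v from d.2.2, inv_smul_eq_iff, hgv]
        · show (g * (d : G) * g⁻¹) • a = a
          rw [mul_smul, mul_smul, show g⁻¹ • a = a from inv_smul_eq_iff.2 hga.symm,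
            show (d : G) • a = a from d.2.1, hga]
        · show (g * (d : G) * g⁻¹) • v = v
          rw [mul_smul, mul_smul, show g⁻¹ • v = x from inv_smul_eq_iff.2 hgv.symm,
            show (d : G) • x = x from d.2.2, hgv]
      rw [h2, R.card_eq_multiplicity, hfact, hr.pow_dvd_iff_le_factorization Nat.card_pos.ne', hBD,
        Nat.factorization_mul (by omega) Nat.card_pos.ne', Finsupp.add_apply] at h1
      have h3 : 0 < (n - 1).factorization r := hr.factorization_pos_of_dvd (by omega) hrn1
      omega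
    have hRcent : Subgroup.normalizer ((R : Subgroup G) : Set G) ≤ Subgroup.centralizer ((R : Subgroup G) : Set G) := by
      intro g hg
      have hgB : g ∈ B := by
        rw [← hstab]
        refine hRfix (g • a) fun y hy => ?_
        have h1 : g⁻¹ * y * g ∈ (R : Subgroup G) := (Subgroup.mem_normalizer_iff''.1 hg y).1 hy
        have h2 : (g⁻¹ * y * g) • a = a := (hstab.symm ▸ hRB h1 : g⁻¹ * y * g ∈ stabilizer G a)
        rwa [mul_smul, mul_smul, inv_smul_eq_iff] at h2
      rw [Subgroup.mem_centralizer_iff]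
      intro y hy
      have hyB : y ∈ B := hRB hy
      have h1 : g * y * g⁻¹ * y⁻¹ ∈ C := by
        refine ⟨⁅(⟨g, hgB⟩ : B), ⟨y, hyB⟩⁆, ?_, rfl⟩
        rw [commutator_def]
        exact Subgroup.commutator_mem_commutator trivial trivial
      have h2 : g * y * g⁻¹ * y⁻¹ ∈ (R : Subgroup G) :=
        (R : Subgroup G).mul_mem ((Subgroup.mem_normalizer_iff.1 hg y).1 hy) ((R : Subgroup G).inv_mem hy)
      have ho1 := Subgroup.orderOf_dvd_natCard _ h1
      have ho2 := Subgroup.orderOf_dvd_natCard _ h2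
      obtain ⟨k, hk⟩ := R.2.exists_card_eq
      rw [hk] at ho2
      obtain ⟨j, -, hj⟩ := (Nat.dvd_prime_pow hr).1 ho2
      rcases Nat.eq_zero_or_pos j with rfl | hjpos
      · rw [pow_zero, orderOf_eq_one_iff, mul_inv_eq_one, mul_inv_eq_iff_eq_mul] at hj
        exact hj.symm
      · exact absurd ((dvd_pow_self r hjpos.ne').trans (hj ▸ ho1)) hrC
    haveI hRfi : (R : Subgroup G).FiniteIndex := inferInstance
    set T := MonoidHom.transferSylow R hRcent with hT
    have hker : T.ker = ⊤ := by
      refine no_normal_A _ inferInstance fun α hα => ?_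
      have h1 : orderOf (T α) ∣ n := (orderOf_map_dvd T α).trans (hAn ▸ Subgroup.orderOf_dvd_natCard A hα)
      have h2 : orderOf (T α) ∣ Nat.card R := orderOf_dvd_natCard _
      obtain ⟨k, hk⟩ := R.2.exists_card_eq
      rw [hk] at h2
      obtain ⟨j, -, hj⟩ := (Nat.dvd_prime_pow hr).1 h2
      rcases Nat.eq_zero_or_pos j with rfl | hjpos
      · rw [pow_zero, orderOf_eq_one_iff] at hj
        exact hj
      · exact absurd ((dvd_pow_self r hjpos.ne').trans (hj ▸ h1)) hrn
    have hco := MonoidHom.ker_transferSylow_isComplement' R hRcent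
    rw [← hT, hker] at hco
    have h4 := hco.card_mul
    rw [Subgroup.card_top] at h4
    have h5 : Nat.card R = 1 := by
      have hpos : 0 < Nat.card G := Nat.card_pos
      exact Nat.eq_of_mul_eq_mul_left hpos (h4.trans (mul_one _).symm)
    rw [R.card_eq_multiplicity, hfact, Nat.pow_eq_one] at h5
    have h6 : 0 < (Nat.card B).factorization r := by
      refine hr.factorization_pos_of_dvd Nat.card_pos.ne' ?_
      rw [hBD]; exact dvd_mul_of_dvd_left hrn1 _
    rcases h5 with h5 | h5
    · exact hr.one_lt.ne' h5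
    · omega
  -- the degree is even
  have heven : Even n := by
    by_contra hodd
    rw [Nat.not_even_iff_odd] at hodd
    set ε : G →* ℤˣ := Equiv.Perm.sign.comp (MulAction.toPermHom G Ω) with hε
    obtain ⟨c₀, hc₀⟩ := hCcyc.exists_generator
    have hcs : ε c₀ = -1 := by
      show Equiv.Perm.sign (MulAction.toPermHom G Ω (c₀ : G)) = -1
      rw [sign_of_cycle (c₀ : G) ((Finset.univ : Finset Ω).erase a)]
      · rw [Finset.card_erase_of_mem (Finset.mem_univ a), Finset.card_univ, ← Nat.card_eq_fintype_card, ← hn,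
          (hodd.tsub_odd odd_one).neg_one_pow]
      · exact ⟨b₀, Finset.mem_erase.2 ⟨hb₀, Finset.mem_univ _⟩⟩
      · intro x hx e
        have hxa := (Finset.mem_erase.1 hx).1
        have h1 : (c₀ : G) = 1 := hCfree _ c₀.2 x hxa e
        obtain ⟨y, hy⟩ : ∃ y : Ω, y ≠ a ∧ y ≠ x := by
          by_contra hc
          push Not at hc
          have h2 : (Finset.univ : Finset Ω) ⊆ {a, x} := fun v _ => by
            rcases eq_or_ne v a with rfl | hv
            · simp
            · simp [hc v hv]
          have h3 := (Finset.card_le_card h2).trans Finset.card_le_two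
          rw [Finset.card_univ, ← Nat.card_eq_fintype_card] at h3
          omega
        obtain ⟨c, hc, hcy⟩ := hCtrans x y hxa hy.1
        obtain ⟨k, hk⟩ := Subgroup.mem_zpowers_iff.1 (hc₀ ⟨c, hc⟩)
        have h2 : (c₀ : G) ^ k = c := congrArg Subtype.val hk
        rw [h1, one_zpow] at h2
        rw [← h2, one_smul] at hcy
        exact hy.2 hcy.symm
      · intro x hx
        rw [Finset.mem_erase, not_and_or] at hx
        rcases hx with hx | hx
        · rw [not_not.1 hx]; exact hCfix _ c₀.2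
        · exact absurd (Finset.mem_univ x) hx
      · intro x hx y hy
        obtain ⟨c, hc, hcy⟩ := hCtrans x y (Finset.mem_erase.1 hx).1 (Finset.mem_erase.1 hy).1
        obtain ⟨k, hk⟩ := Subgroup.mem_zpowers_iff.1 (hc₀ ⟨c, hc⟩)
        exact ⟨k, by rw [show (c₀ : G) ^ k = c from congrArg Subtype.val hk]; exact hcy⟩
    have hαs : ε α₀ = 1 := by
      show Equiv.Perm.sign (MulAction.toPermHom G Ω (α₀ : G)) = 1
      rw [sign_of_cycle (α₀ : G) (Finset.univ : Finset Ω)]
      · rw [Finset.card_univ, ← Nat.card_eq_fintype_card, ← hn, hodd.neg_one_pow, neg_neg]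
      · exact ⟨a, Finset.mem_univ a⟩
      · intro x _ e
        have h1 := hAfree α₀ α₀.2 x e
        rw [h1, orderOf_one] at hα₀o
        omega
      · intro x hx; exact absurd (Finset.mem_univ x) hx
      · intro x _ y _
        obtain ⟨α, hα, hy⟩ := hAtrans x y
        obtain ⟨k, hk⟩ := Subgroup.mem_zpowers_iff.1 (hα₀ ⟨α, hα⟩)
        exact ⟨k, by rw [show (α₀ : G) ^ k = α from congrArg Subtype.val hk]; exact hy⟩
    have hA : A ≤ ε.ker := fun α hα => by
      obtain ⟨k, hk⟩ := Subgroup.mem_zpowers_iff.1 (hα₀ ⟨α, hα⟩)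
      rw [MonoidHom.mem_ker, ← show (α₀ : G) ^ k = α from congrArg Subtype.val hk, map_zpow, hαs, one_zpow]
    have h1 : (c₀ : G) ∈ ε.ker := by
      rw [no_normal_A _ inferInstance hA]
      trivial
    rw [MonoidHom.mem_ker, hcs] at h1
    exact absurd h1 (by decide)
  -- recognition
  have hpair : CPair G Ω a C A := ⟨hfaith, htwo, heven, by omega, hCfix, hCcyc, hCnorm, hCtrans, hCfree,
    hDcyc, inferInstance, hAtrans, hAfree⟩
  obtain ⟨z, hz, hz2, hz1⟩ := hpair.exists_z
  obtain ⟨p, pt, hco⟩ := exists_coord n G Ω a C A hpair rfl z hz hz2 hz1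
  haveI := Fact.mk hco.prime
  obtain ⟨c, hc0, hzc⟩ := hco.inv
  obtain ⟨e⟩ := CfsgLib.Perm.ZassG.nonempty_pgl_of_coord (G := G) (K := ZMod p) hco.sharp pt hco.inj hco.ne
    hco.surj hco.trans hco.dil ⟨z, c, hc0, by rw [hco.zero], by
      rw [hco.zero, ← mul_smul, hz2, one_smul], fun y hy => by rw [hzc y hy, div_eq_mul_inv]⟩
  refine ⟨p, hco.prime, by have h1 := hco.card; omega, e.toMonoidHom, e.surjective, ?_⟩
  rw [(MonoidHom.ker_eq_bot_iff _).2 (show Function.Injective e.toMonoidHom from e.injective)]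
  infer_instance

end

/-- The main theorem. -/
theorem conc : ∀ (m : ℕ) (G : Type w) [Group G] [Finite G] (A B : Subgroup G), Nat.card G = m →
    ¬ Group.IsSolvable G → Fac A B → Conc G := by
  intro m
  induction m using Nat.strong_induction_on with | _ m ih => ?_
  intro G _ _ A B hm hns hfac
  have hIH : ∀ (H : Type w) [Group H] [Finite H] (A' B' : Subgroup H),
      Nat.card H < Nat.card G → ¬ Group.IsSolvable H → Fac A' B' → Conc H :=
    fun H _ _ A' B' hlt h1 h2 => ih _ (hm ▸ hlt) H A' B' rfl h1 h2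
  by_cases hrad : ∀ N : Subgroup G, N.Normal → Group.IsSolvable N → N = ⊥
  · exact conc_of_radical_free hns hrad hfac hIH
  push Not at hrad
  obtain ⟨N, hN, hNs, hN1⟩ := hrad
  have hlt : Nat.card (G ⧸ N) < Nat.card G := by
    have h1 := N.card_eq_card_quotient_mul_card_subgroup
    have h2 : 1 < Nat.card N := N.one_lt_card_iff_ne_bot.2 hN1
    have h3 : 0 < Nat.card (G ⧸ N) := Nat.card_pos
    nlinarith
  have hqns : ¬ Group.IsSolvable (G ⧸ N) := fun h =>
    hns ((Group.isSolvable_iff_subgroup_quotient N).2 ⟨hNs, h⟩)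
  obtain ⟨p, hp, hp3, π, hπ, hπs⟩ := hIH (G ⧸ N) _ _ hlt hqns (hfac.quotient N)
  refine ⟨p, hp, hp3, π.comp (QuotientGroup.mk' N), hπ.comp (QuotientGroup.mk'_surjective N), ?_⟩
  haveI := hπs
  haveI := hNs
  refine Group.isSolvable_of_ker_le_range
    ((N.subtype).codRestrict (π.comp (QuotientGroup.mk' N)).ker fun x => by
      show (x : G) ∈ (π.comp (QuotientGroup.mk' N)).ker
      rw [MonoidHom.mem_ker, MonoidHom.comp_apply, QuotientGroup.mk'_apply, (QuotientGroup.eq_one_iff _).2 x.2,
        map_one])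
    (((QuotientGroup.mk' N).comp (π.comp (QuotientGroup.mk' N)).ker.subtype).codRestrict π.ker fun x => x.2) ?_
  intro x hx
  exact ⟨⟨x.1, (QuotientGroup.eq_one_iff _).1 (congrArg Subtype.val hx)⟩, Subtype.ext rfl⟩

end CfsgLib.CyclicTimesZ
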