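import Cfsg.Agent.Lib.CyclicTimesZ.Coord

/-!
The involutions with fixed points fix two points only, and the group has coordinates of a projective line.
-/

open MulAction Subgroup Polynomial

set_option linter.style.haveILetI false
set_option linter.unusedSectionVars false

namespace CfsgLib.CyclicTimesZ

universe w

/-- A quadratic form equation over a prime field. -/
theorem exists_norm_eq {p : ℕ} [Fact p.Prime] (hp : p ≠ 2) {c : ZMod p} (hc : ∀ y : ZMod p, y * y ≠ c) :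
    ∃ α γ : ZMod p, α ≠ 0 ∧ γ ≠ 0 ∧ α * α - c * (γ * γ) = c := by
  have h2 : (2 : ZMod p) ≠ 0 := fun e => by
    haveI : NeZero p := ⟨(Fact.out : p.Prime).ne_zero⟩
    have : ((2 : ℕ) : ZMod p) = 0 := by exact_mod_cast e
    rw [ZMod.natCast_eq_zero_iff] at this
    exact hp ((Nat.prime_dvd_prime_iff_eq Fact.out Nat.prime_two).1 this)
  have hc0 : c ≠ 0 := fun e => hc 0 (by rw [e, mul_zero])
  obtain ⟨α, γ, hαγ⟩ : ∃ α γ : ZMod p, α * α - c * (γ * γ) = c := by
    have hcard : Fintype.card (ZMod p) % 2 = 1 := by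
      rw [ZMod.card]; exact ((Fact.out : p.Prime).eq_two_or_odd).resolve_left hp
    obtain ⟨α, γ, e⟩ := FiniteField.exists_root_sum_quadratic (f := X ^ 2 - C c)
      (g := C (-c) * X ^ 2) (degree_X_pow_sub_C two_pos c) (degree_C_mul_X_pow 2 (neg_ne_zero.2 hc0)) hcard
    refine ⟨α, γ, ?_⟩
    simp only [eval_sub, eval_mul, eval_pow, eval_X, eval_C] at e
    linear_combination e
  by_cases hα : α = 0
  · subst hα
    have hγ : γ ≠ 0 := fun e => hc0 (by rw [e] at hαγ; simpa using hαγ.symm)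
    have h1c : (1 - c) ≠ 0 := fun e => hc 1 (by linear_combination e)
    set α' := 2 * c * γ / (1 - c) with hα'
    have hα'0 : α' ≠ 0 := div_ne_zero (mul_ne_zero (mul_ne_zero h2 hc0) hγ) h1c
    have hm : α' * (1 - c) = 2 * c * γ := div_mul_cancel₀ _ h1c
    have e : α' * α' - c * ((γ + α') * (γ + α')) = c := by linear_combination hαγ + α' * hm
    exact ⟨α', γ + α', hα'0, fun e0 => hc α' (by rw [e0] at e; linear_combination e), e⟩
  · exact ⟨α, γ, hα, fun e0 => hc α (by rw [e0] at hαγ; linear_combination hαγ), hαγ⟩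

/-- The product of two non-squares is a square. -/
theorem exists_sq_mul {p : ℕ} [Fact p.Prime] (hp : p ≠ 2) {c c' : ZMod p} (hc : ∀ y : ZMod p, y * y ≠ c)
    (hc' : ∀ y : ZMod p, y * y ≠ c') : ∃ l : ZMod p, l ≠ 0 ∧ c' = c * (l * l) := by
  have hF : ringChar (ZMod p) ≠ 2 := by rwa [ZMod.ringChar_zmod_n]
  have hc0 : c ≠ 0 := fun e => hc 0 (by rw [e, mul_zero])
  have hc0' : c' ≠ 0 := fun e => hc' 0 (by rw [e, mul_zero])
  have hsq : ∀ x : ZMod p, x ≠ 0 → (∀ y, y * y ≠ x) → x ^ (Fintype.card (ZMod p) / 2) = -1 :=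
    fun x hx hn => (FiniteField.pow_dichotomy hF hx).resolve_left fun e => by
      obtain ⟨y, hy⟩ := (FiniteField.isSquare_iff hF hx).2 e
      exact hn y hy.symm
  obtain ⟨m, hm⟩ := (FiniteField.isSquare_iff hF (mul_ne_zero hc0 hc0')).2
    (by rw [mul_pow, hsq c hc0 hc, hsq c' hc0' hc', neg_mul_neg, one_mul])
  refine ⟨m / c, div_ne_zero (fun e => mul_ne_zero hc0 hc0' (by rw [hm, e, mul_zero])) hc0, ?_⟩
  field_simp
  linear_combination hm

/-- The degree is one more than a prime and there are coordinates. -/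
theorem exists_coord : ∀ (n : ℕ) (G Ω : Type w) [Group G] [Finite G] [MulAction G Ω] [Finite Ω] (a : Ω)
    (C A : Subgroup G), CPair G Ω a C A → Nat.card Ω = n → ∀ z ∈ A, z * z = 1 → z ≠ 1 →
    ∃ p, ∃ pt : ZMod p → Ω, Coord G Ω a z p pt := by
  intro n
  induction n using Nat.strong_induction_on with | _ n ih => ?_
  intro G Ω _ _ _ _ a C A h hn z hz hz2 hz1
  classical
  have := Fintype.ofFinite Ω
  set b := z • a with hbdef
  have hb : b ≠ a := h.z_fpf hz hz1 a
  have hzi : z⁻¹ = z := inv_eq_of_mul_eq_one_right hz2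
  have hzb : z • b = a := by rw [hbdef, ← mul_smul, hz2, one_smul]
  obtain ⟨u, hu, hu1, hua, hub⟩ := h.exists_u hb
  by_cases hf : Nat.card {x : Ω // u • x = x} = 2
  · exact h.coord_of_two hz hz2 hz1 hu hu1 hua hub hf
  exfalso
  set f := Nat.card {x : Ω // u • x = x} with hfdef
  haveI : Fact (Nat.Prime 2) := ⟨Nat.prime_two⟩
  -- basic facts about `u`
  have huu : ∀ g : G, (∃ x y : Ω, x ≠ y ∧ u • x = x ∧ u • y = y ∧ u • (g • x) = g • x ∧ u • (g • y) = g • y) →
      g * u = u * g := by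
    rintro g ⟨x, y, hxy, hx, hy, hgx, hgy⟩
    have e := h.eq_of_fix (v := g⁻¹ * u * g) (w := u)
      (by rw [show g⁻¹ * u * g * (g⁻¹ * u * g) = g⁻¹ * (u * u) * g by group, hu, mul_one, inv_mul_cancel])
      hu (fun e => hu1 (by
        have := congrArg (fun w => g * w * g⁻¹) e
        simpa [mul_assoc] using this)) hu1 hxy
      (by rw [mul_smul, mul_smul, hgx, inv_smul_smul]) (by rw [mul_smul, mul_smul, hgy, inv_smul_smul]) hx hy
    rw [mul_assoc, inv_mul_eq_iff_eq_mul] at e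
    exact e.symm
  set Cu := Subgroup.centralizer ({u} : Set G) with hCu
  have hmemCu : ∀ {g : G}, g ∈ Cu ↔ g * u = u * g := fun {g} => by
    rw [hCu, Subgroup.mem_centralizer_singleton_iff, eq_comm]
  let L := {x : Ω // u • x = x}
  letI instL : MulAction Cu L :=
    { smul := fun g x => ⟨(g : G) • x.1, by
        rw [← mul_smul, ← hmemCu.1 g.2, mul_smul, x.2]⟩
      one_smul := fun x => Subtype.ext (one_smul G x.1)
      mul_smul := fun g g' x => Subtype.ext (mul_smul (g : G) g' x.1) }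
  have hLsmul : ∀ (g : Cu) (x : L), (g • x).1 = (g : G) • x.1 := fun g x => rfl
  let φ := MulAction.toPermHom Cu L
  let X := φ.range
  have hφ : ∀ (g : Cu) (x : L), ((φ.rangeRestrict g : X) • x).1 = (g : G) • x.1 := fun g x => rfl
  have hsurj := φ.rangeRestrict_surjective
  let aL : L := ⟨a, hua⟩
  let bL : L := ⟨b, hub⟩
  -- the number of fixed points
  have hfeven : Even f := by
    have hP : IsPGroup 2 (zpowers u) := by
      rintro ⟨w, hw⟩
      obtain ⟨k, rfl⟩ := mem_zpowers_iff.1 hw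
      refine ⟨1, Subtype.ext ?_⟩
      show (u ^ k) ^ 2 ^ 1 = 1
      rw [pow_one, pow_two, ← (Commute.refl u).mul_zpow, hu, one_zpow]
    have h1 := hP.card_modEq_card_fixedPoints Ω
    have h2 : Nat.card (fixedPoints (zpowers u) Ω) = f := by
      refine Nat.card_congr (Equiv.subtypeEquivRight fun y => ?_)
      simp only [mem_fixedPoints]
      refine ⟨fun hy => hy ⟨u, mem_zpowers u⟩, ?_⟩
      rintro hy ⟨w, hw⟩
      obtain ⟨k, rfl⟩ := mem_zpowers_iff.1 hw
      have hst : u ∈ stabilizer G y := hy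
      exact (stabilizer G y).zpow_mem hst k
    rw [h2] at h1
    obtain ⟨r, hr⟩ := h.n_even
    rw [Nat.ModEq] at h1
    exact Nat.even_iff.2 (by omega)
  have hf4 : 4 ≤ f := by
    have h2 : 1 < f := by
      rw [hfdef, Finite.one_lt_card_iff_nontrivial]
      exact ⟨aL, bL, fun e => hb (Subtype.ext_iff.1 e).symm⟩
    obtain ⟨r, hr⟩ := hfeven
    omega
  have hfn : f < Nat.card Ω := by
    rw [hfdef]
    refine lt_of_le_of_ne (Finite.card_subtype_le _) fun e => hu1 (h.faithful u fun x => ?_)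
    have hbij := (Nat.bijective_iff_injective_and_card (Subtype.val : L → Ω)).2 ⟨Subtype.val_injective, e⟩
    obtain ⟨y, rfl⟩ := hbij.2 x
    exact y.2
  have hzCu : z ∈ Cu := hmemCu.2 (huu z ⟨a, b, hb.symm, hua, hub, hub, by rw [hzb]; exact hua⟩)
  -- the fixed line of `u` is an orbit of `A ∩ C(u)`
  have hAline : ∀ β ∈ A, ∀ x : L, u • (β • x.1) = β • x.1 → β ∈ Cu := fun β hβ x hx => by
    refine hmemCu.2 (huu β ⟨x.1, z • x.1, (h.z_fpf hz hz1 x.1).symm, x.2, ?_, hx, ?_⟩)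
    · rw [← mul_smul, ← hmemCu.1 hzCu, mul_smul, x.2]
    · rw [← mul_smul β, h.A_comm hβ hz, mul_smul, ← mul_smul, ← hmemCu.1 hzCu, mul_smul, hx]
  have hpair : CPair X L aL ((C.subgroupOf Cu).map φ.rangeRestrict) ((A.subgroupOf Cu).map φ.rangeRestrict) := by
    refine ⟨fun g hg => Subtype.ext (Equiv.ext hg), ?_, hfeven, hf4, ?_, ?_, ?_, ?_, ?_, ?_, ?_, ?_, ?_⟩
    · intro x y v w hxy hvw
      obtain ⟨g, hgx, hgy⟩ := h.two (fun e => hxy (Subtype.ext e)) (fun e => hvw (Subtype.ext e))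
      have hg : g ∈ Cu := hmemCu.2 (huu g ⟨x.1, y.1, fun e => hxy (Subtype.ext e), x.2, y.2,
        by rw [hgx]; exact v.2, by rw [hgy]; exact w.2⟩)
      exact ⟨φ.rangeRestrict ⟨g, hg⟩, Subtype.ext hgx, Subtype.ext hgy⟩
    · rintro _ ⟨c, hc, rfl⟩
      exact Subtype.ext (h.C_fix _ hc)
    · haveI := h.C_cyc
      haveI : IsCyclic (C.subgroupOf Cu) := isCyclic_of_injective
        (((Cu.subtype.comp (C.subgroupOf Cu).subtype).codRestrict C fun x => x.2))
        (fun x y e => Subtype.ext (Subtype.ext (Subtype.ext_iff.1 e :)))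
      exact isCyclic_of_surjective _ ((φ.rangeRestrict).subgroupMap_surjective (C.subgroupOf Cu))
    · intro g hg c hc
      obtain ⟨c, hc, rfl⟩ := hc
      obtain ⟨g, rfl⟩ := hsurj g
      refine ⟨g * c * g⁻¹, ?_, by rw [map_mul, map_mul, map_inv]⟩
      exact h.C_norm _ (Subtype.ext_iff.1 hg) _ hc
    · intro x y hx hy
      obtain ⟨c, hc, hcx⟩ := h.C_trans x.1 y.1 (fun e => hx (Subtype.ext e)) (fun e => hy (Subtype.ext e))
      have hcu : c ∈ Cu := hmemCu.2 (huu c ⟨a, x.1, fun e => hx (Subtype.ext e.symm), hua, x.2,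
        by rw [h.C_fix c hc]; exact hua, by rw [hcx]; exact y.2⟩)
      exact ⟨φ.rangeRestrict ⟨c, hcu⟩, ⟨_, hc, rfl⟩, Subtype.ext hcx⟩
    · rintro _ ⟨c, hc, rfl⟩ x hx e
      have h1 : (c : G) = 1 := h.C_free _ hc x.1 (fun e' => hx (Subtype.ext e')) (Subtype.ext_iff.1 e)
      rw [show c = 1 from Subtype.ext h1, map_one]
    · intro y hy
      haveI := h.D_cyc y.1 (fun e => hy (Subtype.ext e))
      haveI : IsCyclic ((stabilizer G a ⊓ stabilizer G y.1).subgroupOf Cu) := isCyclic_of_injective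
        (((Cu.subtype.comp ((stabilizer G a ⊓ stabilizer G y.1).subgroupOf Cu).subtype).codRestrict
          (stabilizer G a ⊓ stabilizer G y.1) fun x => x.2))
        (fun x y e => Subtype.ext (Subtype.ext (Subtype.ext_iff.1 e :)))
      have e : stabilizer X aL ⊓ stabilizer X y =
          ((stabilizer G a ⊓ stabilizer G y.1).subgroupOf Cu).map φ.rangeRestrict := by
        ext g
        obtain ⟨g, rfl⟩ := hsurj g
        constructor
        · rintro ⟨h1, h2⟩
          exact ⟨g, ⟨(Subtype.ext_iff.1 h1 :), (Subtype.ext_iff.1 h2 :)⟩, rfl⟩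
        · rintro ⟨g', ⟨h1, h2⟩, e'⟩
          exact e' ▸ ⟨Subtype.ext h1, Subtype.ext h2⟩
      rw [e]
      exact isCyclic_of_surjective _ ((φ.rangeRestrict).subgroupMap_surjective _)
    · haveI := h.A_cyc
      haveI : IsCyclic (A.subgroupOf Cu) := isCyclic_of_injective
        (((Cu.subtype.comp (A.subgroupOf Cu).subtype).codRestrict A fun x => x.2))
        (fun x y e => Subtype.ext (Subtype.ext (Subtype.ext_iff.1 e :)))
      exact isCyclic_of_surjective _ ((φ.rangeRestrict).subgroupMap_surjective (A.subgroupOf Cu))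
    · intro x y
      obtain ⟨β, hβ, hβx⟩ := h.A_trans x.1 y.1
      exact ⟨φ.rangeRestrict ⟨β, hAline β hβ x (by rw [hβx]; exact y.2)⟩, ⟨_, hβ, rfl⟩, Subtype.ext hβx⟩
    · rintro _ ⟨β, hβ, rfl⟩ x e
      have h1 : (β : G) = 1 := h.A_free _ hβ x.1 (Subtype.ext_iff.1 e)
      rw [show β = 1 from Subtype.ext h1, map_one]
  set zX : X := φ.rangeRestrict ⟨z, hzCu⟩ with hzX
  obtain ⟨p, pt, hco⟩ := ih f (hn ▸ hfn) X L aL _ _ hpair rfl zX ⟨_, hz, rfl⟩
    (by rw [hzX, ← map_mul, show (⟨z, hzCu⟩ : Cu) * ⟨z, hzCu⟩ = 1 from Subtype.ext hz2, map_one])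
    (fun e => hb (by
      have := congrArg (fun g : X => (g • aL).1) e
      simpa [hzX, hφ, aL, ← hbdef] using this))
  haveI := Fact.mk hco.prime
  have hp2 : p ≠ 2 := fun e => by
    have h1 : f = p + 1 := hco.card
    obtain ⟨r, hr⟩ := hfeven
    omega
  -- coordinates seen in `G`
  have hpt0 : (pt 0).1 = b := by rw [hco.zero]; rfl
  have hptne : ∀ y, (pt y).1 ≠ a := fun y e => hco.ne y (Subtype.ext e)
  have hptinj : ∀ x y, (pt x).1 = (pt y).1 → x = y := fun x y e => hco.inj (Subtype.ext e)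
  obtain ⟨c, hc0, hzc⟩ := hco.inv
  have hzpt : ∀ y, y ≠ 0 → z • (pt y).1 = (pt (c * y⁻¹)).1 := fun y hy => Subtype.ext_iff.1 (hzc y hy)
  have hcns : ∀ y : ZMod p, y * y ≠ c := fun y hy => by
    have hy0 : y ≠ 0 := fun e => hc0 (by rw [← hy, e, mul_zero])
    refine h.z_fpf hz hz1 (pt y).1 ?_
    rw [hzpt y hy0, ← hy, mul_assoc, mul_inv_cancel₀ hy0, mul_one]
  have hlift_dil : ∀ l : ZMod p, l ≠ 0 → ∃ g ∈ Cu, g • a = a ∧ g • b = b ∧ ∀ y, g • (pt y).1 = (pt (l * y)).1 := by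
    intro l hl
    obtain ⟨g, hga, hg⟩ := hco.dil l hl
    obtain ⟨g, rfl⟩ := hsurj g
    have e0 : ∀ y, (g : G) • (pt y).1 = (pt (l * y)).1 := fun y => Subtype.ext_iff.1 (hg y)
    exact ⟨g, g.2, Subtype.ext_iff.1 hga, by rw [← hpt0, e0, mul_zero], e0⟩
  -- the elements fixing the line pointwise
  have hkprop : ∀ k : G, (∀ x : L, k • x.1 = x.1) →
      k • a = a ∧ k • b = b ∧ Commute z k ∧ (k * k = 1 → k = 1 ∨ k = u) ∧ u * k = k * u ∧
        ∀ g, g • a = a → u • (g • b) = g • b → Commute g k := by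
    intro k hk
    have hka := hk aL
    have hkb := hk bL
    refine ⟨hka, hkb, ?_, fun hk2 => ?_, h.D_comm hb hua hub hka hkb, fun g hga hgb =>
      h.commute_of_norm hb hka hkb hga (hk ⟨g • b, hgb⟩)⟩
    · refine h.swap_comm hb rfl hzb hka hkb (x := (pt 1).1) (hptne 1) ?_ (hk (pt 1))
      exact fun e => one_ne_zero (hptinj 1 0 (e.trans hpt0.symm))
    · by_cases hk1 : k = 1
      · exact Or.inl hk1
      · exact Or.inr (eq_of_involutions (h.D_cyc b hb) ⟨hka, hkb⟩ ⟨hua, hub⟩ hk2 hu hk1 hu1)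
  -- `z * u` has a fixed point
  obtain ⟨w₀, hw₀⟩ : ∃ w, (z * u) • w = w := by
    have hcount' := h.count hz hz2 hz1 hu hu1 hua hub
    obtain ⟨-, -, -, -, -, v₀, hv₀, hv₀1, hv₀w, hv₀a⟩ := hcount'
    rw [← hbdef] at hv₀a
    have hv₀b : v₀ • b = a := by rw [← hv₀a, ← mul_smul, hv₀, one_smul]
    have hv₀Cu : v₀ ∈ Cu := hmemCu.2 (huu v₀ ⟨a, b, hb.symm, hua, hub, by rw [hv₀a]; exact hub,
      by rw [hv₀b]; exact hua⟩)
    set d : Cu := ⟨z, hzCu⟩ * ⟨v₀, hv₀Cu⟩ with hd
    have hda : (d : G) • a = a := by rw [hd, Subgroup.coe_mul, mul_smul, hv₀a, hzb]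
    have hdb : (d : G) • b = b := by rw [hd, Subgroup.coe_mul, mul_smul, hv₀b, hbdef]
    obtain ⟨l, hl⟩ := hco.surj (φ.rangeRestrict d • pt 1) (fun e => hptne 1
      (smul_left_cancel (d : G) ((Subtype.ext_iff.1 e :).trans hda.symm)))
    have hl0 : l ≠ 0 := fun e => one_ne_zero (hptinj 1 0 (smul_left_cancel (d : G) (by
      rw [hpt0, hdb, ← hpt0, ← e]; exact (Subtype.ext_iff.1 hl :).symm)))
    obtain ⟨δ, hδa, hδ⟩ := hco.dil l hl0
    have hdδ : φ.rangeRestrict d = δ := by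
      refine inv_mul_eq_one.1 (hco.sharp (δ⁻¹ * φ.rangeRestrict d) aL (pt 0) (pt 1)
        (fun e => hco.ne 0 e.symm) (fun e => one_ne_zero (hco.inj e).symm) (fun e => hco.ne 1 e.symm)
        ?_ ?_ ?_) |>.symm
      · rw [mul_smul, show φ.rangeRestrict d • aL = aL from Subtype.ext hda, inv_smul_eq_iff, hδa]
      · rw [mul_smul, show φ.rangeRestrict d • pt 0 = pt 0 from Subtype.ext (show (d : G) • _ = _ by rw [hpt0, hdb]),
          inv_smul_eq_iff, hδ, mul_zero]
      · rw [mul_smul, ← hl, inv_smul_eq_iff, hδ, mul_one]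
    have hdpt : ∀ y, (d : G) • (pt y).1 = (pt (l * y)).1 := fun y => by
      rw [← hδ, ← hdδ]; rfl
    have hv₀pt : ∀ y, y ≠ 0 → v₀ • (pt y).1 = (pt (c * l⁻¹ * y⁻¹)).1 := fun y hy => by
      rw [show v₀ = z * (d : G) by rw [hd, Subgroup.coe_mul, ← mul_assoc, hz2, one_mul], mul_smul, hdpt,
        hzpt _ (mul_ne_zero hl0 hy), mul_inv, mul_assoc]
    have hc'ns : ∀ y : ZMod p, y * y ≠ c * l⁻¹ := fun y hy => by
      have hy0 : y ≠ 0 := fun e => mul_ne_zero hc0 (inv_ne_zero hl0) (by rw [← hy, e, mul_zero])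
      have hfix : v₀ • (pt y).1 = (pt y).1 := by
        rw [hv₀pt y hy0, ← hy, mul_assoc, mul_inv_cancel₀ hy0, mul_one]
      set vX : X := φ.rangeRestrict ⟨v₀, hv₀Cu⟩ with hvX
      have hvX2 : vX * vX = 1 := by
        rw [hvX, ← map_mul, show (⟨v₀, hv₀Cu⟩ : Cu) * ⟨v₀, hv₀Cu⟩ = 1 from Subtype.ext hv₀, map_one]
      obtain ⟨x', hx', hvx'⟩ := hpair.exists_second hvX2 (x := pt y) (Subtype.ext hfix)
      have e := h.eq_of_fix hv₀ hu hv₀1 hu1 (fun e => hx' (Subtype.ext e)) (Subtype.ext_iff.1 hvx') hfix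
        x'.2 (pt y).2
      rw [e, hua] at hv₀a
      exact hb hv₀a.symm
    obtain ⟨l', hl', hcl⟩ := exists_sq_mul hp2 hcns hc'ns
    obtain ⟨g, hgCu, hga, hgb, hgpt⟩ := hlift_dil l' hl'
    have hgi : g⁻¹ • a = a ∧ g⁻¹ • b = b :=
      ⟨by rw [inv_smul_eq_iff, hga], by rw [inv_smul_eq_iff, hgb]⟩
    set k := (g * z * g⁻¹)⁻¹ * v₀ with hk
    have hkfix : ∀ x : L, k • x.1 = x.1 := by
      intro x
      rw [hk, mul_smul, inv_smul_eq_iff, mul_smul, mul_smul]
      rcases eq_or_ne x aL with rfl | hx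
      · show v₀ • a = g • z • g⁻¹ • a
        rw [hgi.1, ← hbdef, hgb, hv₀a]
      obtain ⟨y, rfl⟩ := hco.surj x hx
      by_cases hy : y = 0
      · rw [hy, hpt0, hgi.2, hzb, hga, hv₀b]
      · have e : g⁻¹ • (pt y).1 = (pt (l'⁻¹ * y)).1 := by
          rw [inv_smul_eq_iff, hgpt, mul_inv_cancel_left₀ hl']
        rw [e, hzpt _ (mul_ne_zero (inv_ne_zero hl') hy), hgpt, hv₀pt y hy, hcl, mul_inv, inv_inv]
        congr 2
        ring
    obtain ⟨-, -, hkz, hk2, -, hkg⟩ := hkprop k hkfix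
    have hkg' : Commute g k := hkg g hga (by rw [hgb]; exact hub)
    have hv₀e : v₀ = g * z * g⁻¹ * k := by rw [hk, mul_inv_cancel_left]
    have hek : Commute (g * z * g⁻¹) k := Commute.mul_left (Commute.mul_left hkg' hkz) hkg'.inv_left
    have hk2' : k * k = 1 := by
      have := hv₀
      rw [hv₀e] at this
      rw [hek.symm.mul_mul_mul_comm, show g * z * g⁻¹ * (g * z * g⁻¹) = g * (z * z) * g⁻¹ by group, hz2,
        mul_one, mul_inv_cancel, one_mul] at this
      exact this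
    rcases hk2 hk2' with hk1 | hku
    · obtain ⟨w, hw⟩ := hv₀w
      refine absurd ?_ (h.z_fpf hz hz1 (g⁻¹ • w))
      rw [hv₀e, hk1, mul_one, mul_smul, mul_smul, smul_eq_iff_eq_inv_smul] at hw
      exact hw
    · obtain ⟨w, hw⟩ := hv₀w
      refine ⟨g⁻¹ • w, ?_⟩
      have hgu : u * g = g * u := (hmemCu.1 hgCu).symm
      rw [hv₀e, hku, show g * z * g⁻¹ * u = g * (z * u) * g⁻¹ by
        simp only [mul_assoc]; rw [show g⁻¹ * u = u * g⁻¹ by
          rw [inv_mul_eq_iff_eq_mul, ← mul_assoc, ← hgu, mul_inv_cancel_right]],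
        mul_smul, mul_smul, smul_eq_iff_eq_inv_smul] at hw
      exact hw
  -- the second involution
  obtain ⟨α, γ, hα, hγ, hαγ⟩ := exists_norm_eq hp2 hcns
  obtain ⟨g₁, hg₁, ht₁⟩ := hco.trans α
  obtain ⟨g₁, rfl⟩ := hsurj g₁
  obtain ⟨g₂, hg₂Cu, hg₂a, hg₂b, hg₂pt⟩ := hlift_dil γ⁻¹ (inv_ne_zero hγ)
  set g := g₂ * (g₁ : G) with hg
  have hgCu : g ∈ Cu := mul_mem hg₂Cu g₁.2
  have hga : g • a = a := by rw [hg, mul_smul, show (g₁ : G) • a = a from Subtype.ext_iff.1 hg₁, hg₂a]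
  have hgpt : ∀ y, g • (pt y).1 = (pt (γ⁻¹ * (y + α))).1 := fun y => by
    rw [hg, mul_smul, show (g₁ : G) • (pt y).1 = (pt (y + α)).1 from Subtype.ext_iff.1 (ht₁ y), hg₂pt]
  have hgu : g * u = u * g := hmemCu.1 hgCu
  set v := g * (z * u) * g⁻¹ with hv
  have huz : u * z = z * u := (hmemCu.1 hzCu).symm
  have hzu2 : (z * u) * (z * u) = 1 := by
    rw [mul_assoc, ← mul_assoc u, huz, mul_assoc, hu, mul_one, hz2]
  have hv2 : v * v = 1 := by
    rw [hv, show g * (z * u) * g⁻¹ * (g * (z * u) * g⁻¹) = g * ((z * u) * (z * u)) * g⁻¹ by group, hzu2,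
      mul_one, mul_inv_cancel]
  have hv1 : v ≠ 1 := fun e => by
    have h1 : z * u = 1 := conj_eq_one_iff.1 e
    exact h.z_fpf hz hz1 a (by
      have := congrArg (fun w : G => w • a) h1
      simp only [mul_smul, one_smul, hua] at this
      exact this)
  have hvw : v • (g • w₀) = g • w₀ := by rw [hv, mul_smul, mul_smul, inv_smul_smul, hw₀]
  have huv : u * v = v * u := by
    have h1 : Commute u (g * (z * u) * g⁻¹) :=
      Commute.mul_right (Commute.mul_right hgu.symm (Commute.mul_right huz (Commute.refl u)))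
        (Commute.inv_right hgu.symm)
    exact h1
  have hvL : ∀ x : L, v • x.1 = g • z • g⁻¹ • x.1 := fun x => by
    rw [hv, mul_smul, mul_smul, mul_smul z u, show u • g⁻¹ • x.1 = g⁻¹ • x.1 by
      rw [← mul_smul, (Commute.inv_right (show Commute u g from hgu.symm)).eq, mul_smul, x.2]]
  have hva : v • a = (pt (γ⁻¹ * α)).1 := by
    rw [show v • a = v • aL.1 from rfl, hvL, show g⁻¹ • aL.1 = a by rw [inv_smul_eq_iff, hga], ← hbdef,
      ← hpt0, hgpt, zero_add]
  have hvpt : ∀ y, y * γ - α ≠ 0 → v • (pt y).1 = (pt (γ⁻¹ * (c * (y * γ - α)⁻¹ + α))).1 := fun y hy => by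
    have e : g⁻¹ • (pt y).1 = (pt (y * γ - α)).1 := by
      rw [inv_smul_eq_iff, hgpt, sub_add_cancel, mul_comm y, inv_mul_cancel_left₀ hγ]
    rw [hvL, e, hzpt _ hy, hgpt]
  have hvpt0 : ∀ y, y * γ - α = 0 → v • (pt y).1 = a := fun y hy => by
    have e : g⁻¹ • (pt y).1 = b := by
      rw [inv_smul_eq_iff, ← hpt0, hgpt, zero_add, show α = y * γ by linear_combination -hy, mul_comm y,
        inv_mul_cancel_left₀ hγ]
    rw [hvL, e, hzb, hga]
  set k := z * v * z * v with hk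
  have hkfix : ∀ x : L, k • x.1 = x.1 := by
    have hαγ0 : γ⁻¹ * α ≠ 0 := mul_ne_zero (inv_ne_zero hγ) hα
    have he : z • v • a = v • b := by
      rw [hva, hzpt _ hαγ0, ← hpt0, hvpt 0 (by simpa using hα)]
      congr 2
      rw [zero_mul, zero_sub, inv_neg, mul_inv, inv_inv]
      field_simp
      linear_combination -hαγ
    have hzz : ∀ x : Ω, z • z • x = x := fun x => by rw [← mul_smul, hz2, one_smul]
    have hvv : ∀ x : Ω, v • v • x = x := fun x => by rw [← mul_smul, hv2, one_smul]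
    have hka : k • a = a := by
      rw [hk, mul_smul, mul_smul, mul_smul, he, hvv, hzb]
    have hkb : k • b = b := by
      rw [hk, mul_smul, mul_smul, mul_smul, ← he, hzz, hvv, hbdef]
    have hkva : k • (v • a) = v • a := by
      rw [hk, mul_smul, mul_smul, mul_smul, hvv, ← hbdef, ← he, hzz]
    have hvCu : v ∈ Cu := hmemCu.2 huv.symm
    have hkCu : k ∈ Cu := mul_mem (mul_mem (mul_mem hzCu hvCu) hzCu) hvCu
    have hvaL : u • (v • a) = v • a := by rw [← mul_smul, huv, mul_smul, hua]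
    have hk1 : φ.rangeRestrict ⟨k, hkCu⟩ = 1 := by
      refine hco.sharp _ aL bL ⟨v • a, hvaL⟩ (fun e => hb (Subtype.ext_iff.1 e).symm) ?_ ?_
        (Subtype.ext hka) (Subtype.ext hkb) (Subtype.ext hkva)
      · intro e
        refine hαγ0 (hptinj _ 0 ?_)
        rw [← hva, hpt0]
        exact (Subtype.ext_iff.1 e).symm
      · intro e
        refine hptne (γ⁻¹ * α) ?_
        rw [← hva]
        exact (Subtype.ext_iff.1 e).symm
    intro x
    have := hφ ⟨k, hkCu⟩ x
    rw [hk1, one_smul] at this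
    exact this.symm
  obtain ⟨-, -, hkz, hk2, hku, hkg⟩ := hkprop k hkfix
  have hkg' : Commute g k := hkg g hga (by rw [← mul_smul, ← hgu, mul_smul, hub])
  have hvk : Commute v k :=
    Commute.mul_left (Commute.mul_left hkg' (Commute.mul_left hkz (show Commute u k from hku))) hkg'.inv_left
  have hzvz : z * v * z = k * v := by rw [hk, mul_assoc _ v v, hv2, mul_one]
  have hk22 : k * k = 1 := by
    have e : (z * v * z) * (z * v * z) = 1 := by
      rw [show z * v * z * (z * v * z) = z * v * (z * z) * v * z by group, hz2, mul_one, mul_assoc z v v,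
        hv2, mul_one, hz2]
    rw [hzvz, hvk.mul_mul_mul_comm, hv2, mul_one] at e
    exact e
  have hzv : z * v = v * z := by
    rcases hk2 hk22 with hk1 | hk1
    · have := hzvz
      rw [hk1, one_mul, mul_assoc, ← hzi, inv_mul_eq_iff_eq_mul, hzi] at this
      exact this.symm
    · exfalso
      have hcu : u * (g * (z * u) * g⁻¹) = g * z * g⁻¹ := by
        rw [← mul_assoc, ← mul_assoc, ← hgu, mul_assoc g u, ← mul_assoc u, huz, mul_assoc z u, hu, mul_one]
      have e : z * v * z = g * z * g⁻¹ := by rw [hzvz, hk1, hv, hcu]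
      refine h.z_fpf hz hz1 (g⁻¹ • z • g • w₀) ?_
      have h1 : (z * v * z) • z • g • w₀ = z • g • w₀ := by
        rw [← mul_smul _ z, mul_assoc (z * v), hz2, mul_one, mul_smul, hvw]
      rw [e, mul_smul, mul_smul, smul_eq_iff_eq_inv_smul] at h1
      exact h1
  -- every such involution is centralised by `A ∩ C(u)`
  set y₀ := g • w₀ with hy₀
  obtain ⟨β, hβA, hβ⟩ := h.A_trans a y₀
  have hvβ : v = β * u * β⁻¹ := by
    refine h.eq_of_fix hv2 ?_ hv1 ?_ (h.z_fpf hz hz1 y₀).symm hvw ?_ ?_ ?_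
    · rw [show β * u * β⁻¹ * (β * u * β⁻¹) = β * (u * u) * β⁻¹ by group, hu, mul_one, mul_inv_cancel]
    · exact fun e => hu1 (conj_eq_one_iff.1 e)
    · rw [← mul_smul, ← hzv, mul_smul, hvw]
    · rw [← hβ, mul_smul, mul_smul, inv_smul_smul, hua]
    · rw [← hβ, ← mul_smul z, h.A_comm hz hβA, mul_smul β z, ← hbdef, mul_smul, mul_smul, inv_smul_smul, hub]
  set x := v • a with hx
  have hxL : u • x = x := by rw [hx, ← mul_smul, huv, mul_smul, hua]
  obtain ⟨η, hη, hηa⟩ := h.A_trans a x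
  have hηCu : η ∈ Cu := hAline η hη aL (by show u • (η • a) = η • a; rw [hηa, hxL])
  have hηv : η * v = v * η := by
    have h1 : Commute η β := h.A_comm hη hβA
    have h2 : Commute η u := hmemCu.1 hηCu
    rw [hvβ]
    exact (Commute.mul_right (Commute.mul_right h1 h2) h1.inv_right).eq
  have hηη : η * η = 1 := h.A_free _ (A.mul_mem hη hη) a (by
    rw [mul_smul, hηa, hx, ← mul_smul, hηv, mul_smul, hηa, hx, ← mul_smul, hv2, one_smul])
  have hη1 : η ≠ 1 := fun e => hptne (γ⁻¹ * α) (by rw [← hva, ← hηa, e, one_smul])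
  have hηz : η = z := eq_of_involutions h.A_cyc hη hz hηη hz2 hη1 hz1
  refine mul_ne_zero (inv_ne_zero hγ) hα (hptinj (γ⁻¹ * α) 0 ?_)
  rw [← hva, ← hηa, hηz, hpt0]

end CfsgLib.CyclicTimesZ
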