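import Mathlib

/-!
Doubly transitive groups with a regular cyclic subgroup and, in a point stabiliser, a normal cyclic
subgroup regular on the other points: the involutions interchanging two points.
-/

open MulAction Subgroup

set_option linter.style.haveILetI false
set_option linter.unusedSectionVars false

namespace CfsgLib.CyclicTimesZ

/-- In a finite cyclic group the element order determines the subgroup generated. -/
theorem mem_zpowers_of_orderOf_eq {G : Type*} [Group G] [Finite G] {D : Subgroup G} (hD : IsCyclic D)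
    {x y : G} (hx : x ∈ D) (hy : y ∈ D) (h : orderOf x = orderOf y) : x ∈ zpowers y := by
  classical
  have := Fintype.ofFinite G
  have := Fintype.ofFinite D
  by_contra hn
  have h1 := IsCyclic.card_pow_eq_one_le (α := D) (n := orderOf y) (orderOf_pos y)
  let f : zpowers y → D := fun w => ⟨w.1, zpowers_le.2 hy w.2⟩
  have hf : Function.Injective f := fun v w e => Subtype.ext (Subtype.ext_iff.1 e :)
  have h2 : insert (⟨x, hx⟩ : D) ((Finset.univ : Finset (zpowers y)).image f) ⊆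
      Finset.univ.filter fun w : D => w ^ orderOf y = 1 := by
    intro w hw
    rw [Finset.mem_filter]
    refine ⟨Finset.mem_univ _, Subtype.ext ?_⟩
    rcases Finset.mem_insert.1 hw with rfl | hw
    · show x ^ orderOf y = 1
      rw [← h, pow_orderOf_eq_one]
    · obtain ⟨⟨v, hv⟩, -, rfl⟩ := Finset.mem_image.1 hw
      obtain ⟨k, rfl⟩ := mem_zpowers_iff.1 hv
      show (y ^ k) ^ orderOf y = 1
      rw [← zpow_natCast, ← zpow_mul, mul_comm, zpow_mul, zpow_natCast, pow_orderOf_eq_one, one_zpow]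
  have h3 := (Finset.card_le_card h2).trans h1
  rw [Finset.card_insert_of_notMem (fun hm => by
    obtain ⟨⟨v, hv⟩, -, e⟩ := Finset.mem_image.1 hm
    have e' : v = x := congrArg Subtype.val e
    exact hn (e' ▸ hv)),
    Finset.card_image_of_injective _ hf,
    Finset.card_univ, ← Nat.card_eq_fintype_card, Nat.card_zpowers] at h3
  omega

/-- Two involutions of a cyclic group are equal. -/
theorem eq_of_involutions {G : Type*} [Group G] [Finite G] {D : Subgroup G} (hD : IsCyclic D)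
    {x y : G} (hx : x ∈ D) (hy : y ∈ D) (hx2 : x * x = 1) (hy2 : y * y = 1) (hx1 : x ≠ 1) (hy1 : y ≠ 1) :
    x = y := by
  have o : ∀ w : G, w * w = 1 → w ≠ 1 → orderOf w = 2 := fun w h1 h2 =>
    orderOf_eq_prime (by rw [pow_two, h1]) h2
  obtain ⟨k, hk⟩ := mem_zpowers_iff.1 (mem_zpowers_of_orderOf_eq hD hx hy ((o x hx2 hx1).trans (o y hy2 hy1).symm))
  rcases Int.even_or_odd k with ⟨j, rfl⟩ | ⟨j, rfl⟩
  · rw [zpow_add, ← (Commute.refl y).mul_zpow, hy2, one_zpow] at hk
    exact absurd hk.symm hx1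
  · rw [zpow_add, zpow_one, two_mul, zpow_add, ← (Commute.refl y).mul_zpow, hy2, one_zpow, one_mul] at hk
    exact hk.symm

/-- The standing hypotheses. -/
structure CPair (G Ω : Type*) [Group G] [MulAction G Ω] (a : Ω) (C A : Subgroup G) : Prop where
  faithful : ∀ g : G, (∀ x : Ω, g • x = x) → g = 1
  two : ∀ {x y v w : Ω}, x ≠ y → v ≠ w → ∃ g : G, g • x = v ∧ g • y = w
  n_even : Even (Nat.card Ω)
  four : 4 ≤ Nat.card Ω
  C_fix : ∀ c ∈ C, c • a = a
  C_cyc : IsCyclic C
  C_norm : ∀ g : G, g • a = a → ∀ c ∈ C, g * c * g⁻¹ ∈ C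
  C_trans : ∀ x y : Ω, x ≠ a → y ≠ a → ∃ c ∈ C, c • x = y
  C_free : ∀ c ∈ C, ∀ x : Ω, x ≠ a → c • x = x → c = 1
  D_cyc : ∀ b : Ω, b ≠ a → IsCyclic ↥(stabilizer G a ⊓ stabilizer G b)
  A_cyc : IsCyclic A
  A_trans : ∀ x y : Ω, ∃ α ∈ A, α • x = y
  A_free : ∀ α ∈ A, ∀ x : Ω, α • x = x → α = 1

namespace CPair

variable {G Ω : Type*} [Group G] [Finite G] [MulAction G Ω] [Finite Ω] {a : Ω} {C A : Subgroup G}
  (h : CPair G Ω a C A)
include h

theorem A_comm {x y : G} (hx : x ∈ A) (hy : y ∈ A) : x * y = y * x := by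
  haveI := h.A_cyc
  letI : CommGroup A := IsCyclic.commGroup
  exact congrArg Subtype.val (mul_comm (⟨x, hx⟩ : A) ⟨y, hy⟩)

theorem D_comm {b : Ω} (hb : b ≠ a) {x y : G} (hxa : x • a = a) (hxb : x • b = b) (hya : y • a = a)
    (hyb : y • b = b) : x * y = y * x := by
  haveI := h.D_cyc b hb
  letI : CommGroup ↥(stabilizer G a ⊓ stabilizer G b) := IsCyclic.commGroup
  exact congrArg Subtype.val
    (mul_comm (⟨x, hxa, hxb⟩ : ↥(stabilizer G a ⊓ stabilizer G b)) ⟨y, hya, hyb⟩)

theorem card_A : Nat.card A = Nat.card Ω := by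
  refine Nat.card_congr (Equiv.ofBijective (fun α : A => (α : G) • a) ⟨fun α β e => ?_, fun x => ?_⟩)
  · exact Subtype.ext (inv_mul_eq_one.1 (h.A_free _ (A.mul_mem (A.inv_mem β.2) α.2) a
      (by rw [mul_smul]; exact (congrArg (fun x => (β : G)⁻¹ • x) e).trans (inv_smul_smul _ _)))).symm
  · obtain ⟨α, hα, e⟩ := h.A_trans a x
    exact ⟨⟨α, hα⟩, e⟩

theorem card_C : Nat.card C + 1 = Nat.card Ω := by
  classical
  have := Fintype.ofFinite Ω
  obtain ⟨b, hb⟩ : ∃ b : Ω, b ≠ a := by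
    by_contra hn
    push Not at hn
    haveI : Subsingleton Ω := ⟨fun x y => (hn x).trans (hn y).symm⟩
    have := h.four
    have := Finite.card_le_one_iff_subsingleton.2 (inferInstance : Subsingleton Ω)
    omega
  have e : Nat.card C = Nat.card {x : Ω // x ≠ a} := by
    refine Nat.card_congr (Equiv.ofBijective (fun c : C => (⟨(c : G) • b, fun e => hb ?_⟩ : {x : Ω // x ≠ a}))
      ⟨fun c d e => ?_, fun x => ?_⟩)
    · exact smul_left_cancel (c : G) (e.trans (h.C_fix c c.2).symm)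
    · have e' : (c : G) • b = (d : G) • b := congrArg Subtype.val e
      exact Subtype.ext (inv_mul_eq_one.1 (h.C_free _ (C.mul_mem (C.inv_mem d.2) c.2) b hb
        (by rw [mul_smul, e', inv_smul_smul]))).symm
    · obtain ⟨c, hc, e⟩ := h.C_trans b x.1 hb x.2
      exact ⟨⟨c, hc⟩, Subtype.ext e⟩
  have := h.four
  rw [e, Nat.card_eq_fintype_card, Nat.card_eq_fintype_card, Fintype.card_subtype_compl,
    Fintype.card_subtype_eq]
  rw [Nat.card_eq_fintype_card] at this
  omega

/-- An element of `C` that commutes with `k` up to the stabiliser of a point other than `a`. -/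
theorem comm_of_fix {c k : G} (hc : c ∈ C) (hka : k • a = a) {y : Ω} (hy : y ≠ a) (hky : k • y = y)
    (hk' : k • (c • y) = c • y) : c * k = k * c := by
  have h1 : c⁻¹ * (k * c * k⁻¹) ∈ C := C.mul_mem (C.inv_mem hc) (h.C_norm k hka c hc)
  have h2 : (c⁻¹ * (k * c * k⁻¹)) • y = y := by
    rw [mul_smul, mul_smul, mul_smul, show k⁻¹ • y = y by rw [inv_smul_eq_iff, hky], hk', inv_smul_smul]
  have h3 := inv_mul_eq_one.1 (h.C_free _ h1 y hy h2)
  exact eq_mul_inv_iff_mul_eq.1 h3

/-- The involution of the regular cyclic subgroup. -/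
theorem exists_z : ∃ z ∈ A, z * z = 1 ∧ z ≠ 1 := by
  classical
  have := Fintype.ofFinite A
  obtain ⟨z, hz⟩ := exists_prime_orderOf_dvd_card' (G := A) 2
    (by rw [h.card_A]; exact h.n_even.two_dvd)
  refine ⟨z, z.2, ?_, fun e => ?_⟩
  · rw [← pow_two, ← hz, ← Subgroup.orderOf_coe, pow_orderOf_eq_one]
  · rw [show z = 1 from Subtype.ext e, orderOf_one] at hz
    omega

theorem z_fpf {z : G} (hz : z ∈ A) (hz1 : z ≠ 1) (x : Ω) : z • x ≠ x := fun e => hz1 (h.A_free z hz x e)

/-- An involution with a fixed point fixes at least two points. -/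
theorem exists_second {v : G} (hv : v * v = 1) {x : Ω} (hx : v • x = x) : ∃ y, y ≠ x ∧ v • y = y := by
  classical
  have := Fintype.ofFinite Ω
  by_contra hn
  push Not at hn
  haveI : Fact (Nat.Prime 2) := ⟨Nat.prime_two⟩
  have hP : IsPGroup 2 (zpowers v) := by
    rintro ⟨w, hw⟩
    obtain ⟨k, rfl⟩ := mem_zpowers_iff.1 hw
    refine ⟨1, Subtype.ext ?_⟩
    show (v ^ k) ^ 2 ^ 1 = 1
    rw [pow_one, pow_two, ← (Commute.refl v).mul_zpow, hv, one_zpow]
  have h1 := hP.card_modEq_card_fixedPoints Ω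
  have h2 : fixedPoints (zpowers v) Ω = {x} := by
    ext y
    simp only [mem_fixedPoints, Set.mem_singleton_iff]
    refine ⟨fun hy => by_contra fun hne => hn y hne (hy ⟨v, mem_zpowers v⟩), ?_⟩
    rintro rfl ⟨w, hw⟩
    obtain ⟨k, rfl⟩ := mem_zpowers_iff.1 hw
    have hst : v ∈ stabilizer G y := hx
    exact (stabilizer G y).zpow_mem hst k
  rw [h2, show Nat.card ({x} : Set Ω) = 1 by simp] at h1
  have h3 := h.n_even.two_dvd
  rw [Nat.ModEq] at h1
  omega

/-- The two point stabilisers have even order. -/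
theorem exists_u {b : Ω} (hb : b ≠ a) :
    ∃ u : G, u * u = 1 ∧ u ≠ 1 ∧ u • a = a ∧ u • b = b := by
  classical
  have := Fintype.ofFinite Ω
  haveI := h.A_cyc
  haveI := h.C_cyc
  obtain ⟨α, hα⟩ := IsCyclic.exists_generator (α := A)
  set ε : G →* ℤˣ := Equiv.Perm.sign.comp (MulAction.toPermHom G Ω) with hε
  set π := MulAction.toPermHom G Ω (α : G) with hπ
  have hcyc : π.IsCycle := by
    obtain ⟨x⟩ : Nonempty Ω := ⟨a⟩
    refine ⟨x, fun e => ?_, fun y _ => ?_⟩
    · have h1 := h.A_free α α.2 x e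
      obtain ⟨β, hβ, hβx⟩ := h.A_trans a b
      obtain ⟨k, hk⟩ := mem_zpowers_iff.1 (hα ⟨β, hβ⟩)
      have h2 : ((α : G) ^ k) = β := congrArg Subtype.val hk
      rw [h1, one_zpow] at h2
      rw [← h2, one_smul] at hβx
      exact hb hβx.symm
    · obtain ⟨β, hβ, hβx⟩ := h.A_trans x y
      obtain ⟨k, hk⟩ := mem_zpowers_iff.1 (hα ⟨β, hβ⟩)
      refine ⟨k, ?_⟩
      rw [hπ, ← map_zpow, show ((α : G) ^ k) = β from congrArg Subtype.val hk]
      exact hβx
  have hsupp : π.support = Finset.univ := by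
    refine Finset.eq_univ_of_forall fun x => Equiv.Perm.mem_support.2 fun e => ?_
    obtain ⟨y, hy, -⟩ := hcyc
    exact hy (by rw [hπ, h.A_free α α.2 x e, map_one]; rfl)
  have hodd : ε α = -1 := by
    show Equiv.Perm.sign π = -1
    rw [hcyc.sign, hsupp, Finset.card_univ, ← Nat.card_eq_fintype_card, h.n_even.neg_one_pow]
  have hst : ∃ g : G, g • a = a ∧ ε g ≠ 1 := by
    by_contra hn
    push Not at hn
    have hall : ∀ (x : Ω) (g : G), g • x = x → ε g = 1 := fun x g hg => by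
      obtain ⟨β, -, hβ⟩ := h.A_trans a x
      have h1 := hn (β⁻¹ * g * β) (by rw [mul_smul, mul_smul, hβ, hg, inv_smul_eq_iff, hβ])
      rwa [map_mul, map_mul, map_inv, mul_comm (ε β)⁻¹, inv_mul_cancel_right] at h1
    have hn3 : ∀ y : Ω, ∃ x : Ω, x ≠ a ∧ x ≠ y := fun y => by
      by_contra hc
      push Not at hc
      have : (Finset.univ : Finset Ω) ⊆ {a, y} := fun x _ => by
        rcases eq_or_ne x a with rfl | hx
        · simp
        · simp [hc x hx]
      have := (Finset.card_le_card this).trans (Finset.card_le_two)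
      rw [Finset.card_univ, ← Nat.card_eq_fintype_card] at this
      have := h.four
      omega
    obtain ⟨x, hxa, hxy⟩ := hn3 ((α : G) • a)
    obtain ⟨k, hkx, hka⟩ := h.two hxa hxy
    have h1 := hall x k hkx
    have h2 := hall a (k⁻¹ * α) (by rw [mul_smul, ← hka, inv_smul_smul])
    rw [map_mul, map_inv, h1, inv_one, one_mul, hodd] at h2
    exact absurd h2 (by decide)
  obtain ⟨g, hga, hg⟩ := hst
  obtain ⟨c, hc, hcb⟩ := h.C_trans b (g • b) hb (fun e => hb (smul_left_cancel g (e.trans hga.symm)))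
  have hεc : ε c = 1 := by
    have h1 : c ^ Nat.card C = 1 := congrArg Subtype.val (pow_card_eq_one' (x := (⟨c, hc⟩ : C)))
    have h2 := congrArg ε h1
    rw [map_pow, map_one] at h2
    have h3 : Odd (Nat.card C) := by
      have := h.card_C
      rcases Nat.even_or_odd (Nat.card C) with he | ho
      · obtain ⟨r, hr⟩ := he
        obtain ⟨s, hs⟩ := h.n_even
        omega
      · exact ho
    rcases Int.units_eq_one_or (ε c) with e | e
    · exact e
    · rw [e, h3.neg_one_pow] at h2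
      exact absurd h2 (by decide)
  set d := c⁻¹ * g with hd
  have hda : d • a = a := by rw [hd, mul_smul, hga, inv_smul_eq_iff, h.C_fix c hc]
  have hdb : d • b = b := by rw [hd, mul_smul, inv_smul_eq_iff, hcb]
  have hεd : ε d ≠ 1 := by rw [hd, map_mul, map_inv, hεc, inv_one, one_mul]; exact hg
  have heven : 2 ∣ orderOf d := by
    by_contra hno
    have h1 := congrArg ε (pow_orderOf_eq_one d)
    rw [map_pow, map_one, (Int.units_eq_one_or (ε d)).resolve_left hεd,
      (Nat.odd_iff.2 (by omega)).neg_one_pow] at h1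
    exact absurd h1 (by decide)
  refine ⟨d ^ (orderOf d / 2), ?_, ?_, ?_, ?_⟩
  · rw [← pow_add, show orderOf d / 2 + orderOf d / 2 = orderOf d by omega, pow_orderOf_eq_one]
  · exact pow_ne_one_of_lt_orderOf (by have := orderOf_pos d; omega) (by have := orderOf_pos d; omega)
  · exact (stabilizer G a).pow_mem hda _
  · exact (stabilizer G b).pow_mem hdb _

/-- An involution with a fixed point is conjugate to `u`. -/
theorem conj_u {b : Ω} (hb : b ≠ a) {u : G} (hu : u * u = 1) (hu1 : u ≠ 1) (hua : u • a = a)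
    (hub : u • b = b) {v : G} (hv : v * v = 1) (hv1 : v ≠ 1) {x y : Ω} (hxy : x ≠ y) (hx : v • x = x)
    (hy : v • y = y) {g : G} (hga : g • x = a) (hgb : g • y = b) : g * v * g⁻¹ = u := by
  have hga' : g⁻¹ • a = x := by rw [inv_smul_eq_iff, hga]
  have hgb' : g⁻¹ • b = y := by rw [inv_smul_eq_iff, hgb]
  refine eq_of_involutions (h.D_cyc b hb) ⟨?_, ?_⟩ ⟨hua, hub⟩ ?_ hu ?_ hu1
  · show (g * v * g⁻¹) • a = a
    rw [mul_smul, mul_smul, hga', hx, hga]
  · show (g * v * g⁻¹) • b = b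
    rw [mul_smul, mul_smul, hgb', hy, hgb]
  · rw [show g * v * g⁻¹ * (g * v * g⁻¹) = g * (v * v) * g⁻¹ by group, hv, mul_one, mul_inv_cancel]
  · exact fun e => hv1 (conj_eq_one_iff.1 e)

/-- An involution is determined by two of its fixed points. -/
theorem eq_of_fix {v w : G} (hv : v * v = 1) (hw : w * w = 1) (hv1 : v ≠ 1) (hw1 : w ≠ 1)
    {x y : Ω} (hxy : x ≠ y) (hvx : v • x = x) (hvy : v • y = y) (hwx : w • x = x) (hwy : w • y = y) :
    v = w := by
  obtain ⟨β, -, hβ⟩ := h.A_trans x a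
  have hb : β • y ≠ a := fun e => hxy (smul_left_cancel β (hβ.trans e.symm))
  obtain ⟨u, hu, hu1, hua, hub⟩ := h.exists_u hb
  have e1 := h.conj_u hb hu hu1 hua hub hv hv1 hxy hvx hvy hβ rfl
  have e2 := h.conj_u hb hu hu1 hua hub hw hw1 hxy hwx hwy hβ rfl
  exact mul_left_cancel (mul_right_cancel (e1.trans e2.symm))

theorem zpowers_conj_eq {b : Ω} (hb : b ≠ a) {d g : G} (hda : d • a = a) (hdb : d • b = b)
    (hga : d • (g • a) = g • a) (hgb : d • (g • b) = g • b) :
    g⁻¹ * d * g ∈ zpowers d ∧ d ∈ zpowers (g⁻¹ * d * g) := by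
  have hm : g⁻¹ * d * g ∈ stabilizer G a ⊓ stabilizer G b := by
    refine ⟨?_, ?_⟩
    · show (g⁻¹ * d * g) • a = a
      rw [mul_smul, mul_smul, hga, inv_smul_smul]
    · show (g⁻¹ * d * g) • b = b
      rw [mul_smul, mul_smul, hgb, inv_smul_smul]
  have ho : orderOf (g⁻¹ * d * g) = orderOf d := by
    simpa using orderOf_injective (MulAut.conj g⁻¹).toMonoidHom (MulAut.conj g⁻¹).injective d
  exact ⟨mem_zpowers_of_orderOf_eq (h.D_cyc b hb) hm ⟨hda, hdb⟩ ho,
    mem_zpowers_of_orderOf_eq (h.D_cyc b hb) ⟨hda, hdb⟩ hm ho.symm⟩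

/-- An element fixing `a` that maps `b` to a fixed point of `d` and normalises `⟨d⟩` commutes with it. -/
theorem commute_of_norm {b : Ω} (hb : b ≠ a) {d g : G} (hda : d • a = a) (hdb : d • b = b)
    (hga : g • a = a) (hgb : d • (g • b) = g • b) : Commute g d := by
  obtain ⟨c, hc, hcb⟩ := h.C_trans b (g • b) hb (fun e => hb (smul_left_cancel g (e.trans hga.symm)))
  have h1 : c * d = d * c := h.comm_of_fix hc hda hb hdb (by rw [hcb, hgb])
  have h2 : c⁻¹ * g * d = d * (c⁻¹ * g) :=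
    h.D_comm hb (by rw [mul_smul, hga, inv_smul_eq_iff, h.C_fix c hc])
      (by rw [mul_smul, inv_smul_eq_iff, hcb]) hda hdb
  have h3 : Commute (c * (c⁻¹ * g)) d := Commute.mul_left h1 h2
  rwa [mul_inv_cancel_left] at h3

/-- An element interchanging `a` and `b` commutes with the elements fixing `a`, `b` and a third point. -/
theorem swap_comm {b : Ω} (hb : b ≠ a) {z d : G} (hza : z • a = b) (hzb : z • b = a)
    (hda : d • a = a) (hdb : d • b = b) {x : Ω} (hxa : x ≠ a) (hxb : x ≠ b) (hdx : d • x = x) :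
    Commute z d := by
  -- moving `a` to `x`, fixing `b`
  obtain ⟨g₁, hg₁a, hg₁b⟩ := h.two hb.symm hxb
  obtain ⟨g₂, hg₂a, hg₂b⟩ := h.two hxa.symm hb.symm
  have hk : Commute (z⁻¹ * g₁ * z) d := h.commute_of_norm hb hda hdb
    (by rw [mul_smul, mul_smul, hza, hg₁b, ← hza, inv_smul_smul])
    (by
      have e : (z⁻¹ * g₁ * z) • b = z⁻¹ • x := by rw [mul_smul, mul_smul, hzb, hg₁a]
      rw [e]
      obtain ⟨-, hz2⟩ := h.zpowers_conj_eq hb (g := z) hda hdb (by rw [hza, hdb]) (by rw [hzb, hda])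
      obtain ⟨k, hk⟩ := mem_zpowers_iff.1 hz2
      have hfix : (z⁻¹ * d * z) ^ k • (z⁻¹ • x) = z⁻¹ • x := by
        refine (stabilizer G (z⁻¹ • x)).zpow_mem ?_ k
        show (z⁻¹ * d * z) • (z⁻¹ • x) = z⁻¹ • x
        rw [mul_smul, mul_smul, smul_inv_smul, hdx]
      rwa [hk] at hfix)
  have hg1 : Commute g₁ d := by
    obtain ⟨hz1, -⟩ := h.zpowers_conj_eq hb (g := z) hda hdb (by rw [hza, hdb]) (by rw [hzb, hda])
    obtain ⟨k, hk'⟩ := mem_zpowers_iff.1 hz1
    have h1 : Commute (z⁻¹ * g₁ * z) (z⁻¹ * d * z) := hk' ▸ hk.zpow_right k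
    have h2 : z⁻¹ * g₁ * z * (z⁻¹ * d * z) = z⁻¹ * d * z * (z⁻¹ * g₁ * z) := h1
    rw [show z⁻¹ * g₁ * z * (z⁻¹ * d * z) = z⁻¹ * (g₁ * d) * z by group,
      show z⁻¹ * d * z * (z⁻¹ * g₁ * z) = z⁻¹ * (d * g₁) * z by group] at h2
    exact mul_left_cancel (mul_right_cancel h2)
  have hg2 : Commute g₂ d := by
    have e : g₂⁻¹ • b = x := by rw [inv_smul_eq_iff, hg₂b]
    have h1 : Commute g₂⁻¹ d := h.commute_of_norm hb hda hdb (by rw [inv_smul_eq_iff, hg₂a])
      (by rw [e, hdx])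
    simpa using h1.inv_left
  have h12 : Commute (g₂ * g₁) d := Commute.mul_left hg2 hg1
  have h3 : Commute ((g₂ * g₁)⁻¹ * z) d := by
    refine h.commute_of_norm hb hda hdb (by rw [mul_smul, hza, inv_smul_eq_iff, mul_smul, hg₁a, hg₂b]) ?_
    rw [mul_smul, hzb, ← mul_smul, ← h12.inv_left.eq, mul_smul, hda]
  have h4 := Commute.mul_left h12 h3
  rwa [mul_inv_cancel_left] at h4

end CPair

end CfsgLib.CyclicTimesZ
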