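import Cfsg.Agent.Lib.PSL2.Solvable
import Cfsg.Agent.Lib.PSL2.Tori
import Cfsg.Agent.Lib.PSL2.Moebius
import Cfsg.Agent.Lib.PGroups.Basic
import Cfsg.Agent.Lib.CyclicTimesZ.Pair

/-!
Facts on `PGL(2, p)`.
-/

open MulAction Matrix CfsgLib.Classical CfsgLib.PSL2
open scoped LinearAlgebra.Projectivization

set_option linter.style.haveILetI false
set_option linter.unusedSectionVars false

namespace CfsgLib.CyclicTimesZ

/-- A `2`-group with a small Frattini quotient is cyclic. -/
theorem isCyclic_of_index_frattini {H : Type*} [Group H] [Finite H] (h : (frattini H).index ≤ 2) :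
    IsCyclic H := by
  classical
  by_cases ht : frattini H = ⊤
  · haveI : Subsingleton H := by
      have h1 : (⊥ : Subgroup H) = ⊤ := frattini_nongenerating (by rw [ht]; exact sup_top_eq _)
      exact ⟨fun x y => by
        have hx : x ∈ (⊥ : Subgroup H) := by rw [h1]; exact Subgroup.mem_top x
        have hy : y ∈ (⊥ : Subgroup H) := by rw [h1]; exact Subgroup.mem_top y
        rw [Subgroup.mem_bot.1 hx, Subgroup.mem_bot.1 hy]⟩
    infer_instance
  obtain ⟨g, hg⟩ : ∃ g, g ∉ frattini H := by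
    by_contra hn
    push Not at hn
    exact ht (eq_top_iff.2 fun x _ => hn x)
  have hidx : (frattini H).index = 2 := by
    have h1 : (frattini H).index ≠ 1 := fun e => ht (Subgroup.index_eq_one.1 e)
    have h2 : (frattini H).index ≠ 0 := Subgroup.index_ne_zero_of_finite
    omega
  have htop : Subgroup.zpowers g ⊔ frattini H = ⊤ := by
    refine eq_top_iff.2 fun x _ => ?_
    by_cases hx : x ∈ frattini H
    · exact Subgroup.mem_sup_right hx
    · have h1 : g⁻¹ * x ∈ frattini H := by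
        rw [Subgroup.mul_mem_iff_of_index_two hidx, Subgroup.inv_mem_iff]
        exact iff_of_false hg hx
      have := mul_mem (Subgroup.mem_sup_left (T := frattini H) (Subgroup.mem_zpowers g))
        (Subgroup.mem_sup_right (S := Subgroup.zpowers g) h1)
      rwa [mul_inv_cancel_left] at this
  have := frattini_nongenerating htop
  exact ⟨g, fun x => (this ▸ Subgroup.mem_top x : x ∈ Subgroup.zpowers g)⟩

section

variable {p : ℕ} [hp : Fact p.Prime] (hp3 : 3 < p)
include hp3

local notation "PG" => Matrix.ProjGenLinGroup (Fin 2) (ZMod p)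
local notation "P1" => ℙ (ZMod p) (Fin 2 → ZMod p)

theorem card_pgl : Nat.card PG = (p + 1) * (p * (p - 1)) :=
  card_pgl_two (Nat.card_zmod p)

theorem index_psl : (pslRange (ZMod p)).index = 2 := by
  rw [index_pslRange]
  rw [Nat.card_zmod]
  obtain ⟨r, hr⟩ := (hp.out.odd_of_ne_two (by omega))
  rw [hr]
  exact Nat.gcd_eq_left (by omega)

theorem card_psl : 2 * Nat.card (pslRange (ZMod p)) = (p + 1) * (p * (p - 1)) := by
  have h := (pslRange (ZMod p)).index_mul_card
  rw [index_psl hp3, card_pgl hp3] at h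
  exact h

theorem simple_psl : IsSimpleGroup (pslRange (ZMod p)) := by
  haveI := Matrix.ProjectiveSpecialLinearGroup.rank_two_simple (F := ZMod p) (by rw [Nat.card_zmod]; omega)
  haveI : Nontrivial (pslRange (ZMod p)) := by
    rw [← Finite.one_lt_card_iff_nontrivial]
    have := card_psl hp3
    have h1 : 2 * 1 < (p + 1) * (p * (p - 1)) := by
      have : 1 * (4 * 1) ≤ (p + 1) * (p * (p - 1)) := Nat.mul_le_mul (by omega) (Nat.mul_le_mul (by omega) (by omega))
      omega
    omega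
  exact IsSimpleGroup.isSimpleGroup_of_surjective
    (MonoidHom.ofInjective (f := ProjectiveSpecialLinearGroup.toPGL (n := Fin 2) (R := ZMod p))
      ProjectiveSpecialLinearGroup.toPGL_injective).toMonoidHom (MulEquiv.surjective _)

theorem psl_not_solvable : ¬ Group.IsSolvable (pslRange (ZMod p)) := fun hs => by
  refine not_solvable_psl (K := ZMod p) (by rw [Nat.card_zmod]; omega) ?_
  haveI : Group.IsSolvable (ProjectiveSpecialLinearGroup.toPGL (n := Fin 2) (R := ZMod p)).range := hs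
  exact Group.isSolvable_of_isSolvable_injective
    (f := (MonoidHom.ofInjective (f := ProjectiveSpecialLinearGroup.toPGL (n := Fin 2) (R := ZMod p))
      ProjectiveSpecialLinearGroup.toPGL_injective).toMonoidHom) (MulEquiv.injective _)

/-- A nontrivial normal subgroup contains `PSL`. -/
theorem psl_le_of_normal (N : Subgroup PG) [N.Normal] (hN : N ≠ ⊥) : pslRange (ZMod p) ≤ N := by
  classical
  haveI := simple_psl hp3
  rcases IsSimpleGroup.eq_bot_or_eq_top_of_normal (N.subgroupOf (pslRange (ZMod p))) inferInstance with h | h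
  swap
  · exact Subgroup.subgroupOf_eq_top.1 h
  exfalso
  -- `N` would have order at most two
  have hle : Nat.card N ≤ 2 := by
    refine le_trans (Nat.card_le_card_of_injective (fun x : N => ((x : PG) : PG ⧸ pslRange (ZMod p)))
      fun x y e => ?_) (le_of_eq (index_psl hp3))
    have h1 : (⟨_, QuotientGroup.eq.1 e⟩ : pslRange (ZMod p)) ∈ N.subgroupOf (pslRange (ZMod p)) :=
      N.mul_mem (N.inv_mem x.2) y.2
    rw [h, Subgroup.mem_bot] at h1
    exact Subtype.ext (inv_mul_eq_one.1 (congrArg Subtype.val h1))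
  obtain ⟨n, hn, hn1⟩ : ∃ n ∈ N, n ≠ 1 := by
    by_contra hc
    push Not at hc
    exact hN ((Subgroup.eq_bot_iff_forall N).2 hc)
  obtain ⟨x, hx⟩ : ∃ x : P1, n • x ≠ x := by
    by_contra hc
    push Not at hc
    obtain ⟨w, hw1, hw2⟩ := exists_third (pInf (ZMod p)) (pZero (ZMod p))
    refine hn1 (pgl_sharp ?_ hw1 hw2 (hc _) (hc _) (hc _))
    intro e
    rw [pInf, pZero, Projectivization.mk_eq_mk_iff'] at e
    obtain ⟨t, ht⟩ := e
    simpa using congrFun ht 0
  haveI : Finite P1 := Quotient.finite _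
  have hmove : ∀ y : {y : P1 // y ≠ x}, ∃ m : N, (m : PG) • x = y.1 := by
    rintro ⟨y, hy⟩
    obtain ⟨k₁, hk₁a, hk₁b⟩ := exists_to_std (Ne.symm hx)
    obtain ⟨k₂, hk₂a, hk₂b⟩ := exists_to_std (Ne.symm hy)
    refine ⟨⟨(k₂ * k₁⁻¹) * n * (k₂ * k₁⁻¹)⁻¹, ‹N.Normal›.conj_mem n hn _⟩, ?_⟩
    show ((k₂ * k₁⁻¹) * n * (k₂ * k₁⁻¹)⁻¹) • x = y
    have e1 : (k₂ * k₁⁻¹)⁻¹ • x = x := by
      rw [_root_.mul_inv_rev, inv_inv, mul_smul, show k₂⁻¹ • x = pInf (ZMod p) from inv_smul_eq_iff.2 hk₂a.symm, hk₁a]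
    rw [mul_smul, e1, mul_smul, mul_smul, show k₁⁻¹ • n • x = pZero (ZMod p) from inv_smul_eq_iff.2 hk₁b.symm,
      hk₂b]
  choose m hm using hmove
  have hinj := Nat.card_le_card_of_injective m fun y y' e => Subtype.ext (by rw [← hm y, ← hm y', e])
  have := Fintype.ofFinite P1
  rw [Nat.card_eq_fintype_card, Fintype.card_subtype_compl, Fintype.card_subtype_eq, ← Nat.card_eq_fintype_card,
    card_proj_line, Nat.card_zmod] at hinj
  omega

/-- A Sylow `2`-subgroup is not cyclic. -/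
theorem index_frattini_sylow (Q : Sylow 2 PG) : 3 ≤ (frattini Q).index := by
  classical
  by_contra hlt
  haveI : IsCyclic Q := isCyclic_of_index_frattini (by omega)
  haveI : Fact (Nat.Prime 2) := ⟨Nat.prime_two⟩
  have h2 : (2 : ZMod p) ≠ 0 := fun e => by
    have : ((2 : ℕ) : ZMod p) = 0 := by exact_mod_cast e
    rw [ZMod.natCast_eq_zero_iff] at this
    exact absurd (Nat.le_of_dvd two_pos this) (by omega)
  let d : GL (Fin 2) (ZMod p) := GeneralLinearGroup.mkOfDetNeZero !![-1, 0; 0, 1] (by simp [Matrix.det_fin_two])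
  let w : GL (Fin 2) (ZMod p) := GeneralLinearGroup.mkOfDetNeZero !![0, 1; 1, 0] (by simp [Matrix.det_fin_two])
  have hd : ProjGenLinGroup.mk d * ProjGenLinGroup.mk d = 1 := by
    rw [← map_mul, show d * d = 1 from Units.ext (by
      show !![(-1 : ZMod p), 0; 0, 1] * !![-1, 0; 0, 1] = 1
      ext i j; fin_cases i <;> fin_cases j <;> simp [Matrix.mul_apply, Fin.sum_univ_two]), map_one]
  have hw : ProjGenLinGroup.mk w * ProjGenLinGroup.mk w = 1 := by
    rw [← map_mul, show w * w = 1 from Units.ext (by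
      show !![(0 : ZMod p), 1; 1, 0] * !![0, 1; 1, 0] = 1
      ext i j; fin_cases i <;> fin_cases j <;> simp [Matrix.mul_apply, Fin.sum_univ_two]), map_one]
  have hd1 : ProjGenLinGroup.mk d ≠ 1 := fun e => by
    obtain ⟨-, -, h11⟩ : d.1 1 0 = 0 ∧ d.1 0 1 = 0 ∧ d.1 0 0 = d.1 1 1 := entries_of_mk_eq_one e
    exact h2 (by simp [d, GeneralLinearGroup.mkOfDetNeZero] at h11; linear_combination -h11)
  have hw1 : ProjGenLinGroup.mk w ≠ 1 := fun e => by
    obtain ⟨h10, -, -⟩ : w.1 1 0 = 0 ∧ w.1 0 1 = 0 ∧ w.1 0 0 = w.1 1 1 := entries_of_mk_eq_one e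
    simp [w, GeneralLinearGroup.mkOfDetNeZero] at h10
  have hne : ProjGenLinGroup.mk d ≠ ProjGenLinGroup.mk w := fun e => by
    have h1 : ProjGenLinGroup.mk (d⁻¹ * w) = 1 := by rw [map_mul, map_inv, ← e, inv_mul_cancel]
    have e0 : (d⁻¹ * w).1 = !![(0 : ZMod p), -1; 1, 0] := by
      rw [Units.val_mul, show d⁻¹ = d from inv_eq_of_mul_eq_one_right (Units.ext (by
        show !![(-1 : ZMod p), 0; 0, 1] * !![-1, 0; 0, 1] = 1
        ext i j; fin_cases i <;> fin_cases j <;> simp [Matrix.mul_apply, Fin.sum_univ_two]))]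
      show !![(-1 : ZMod p), 0; 0, 1] * !![0, 1; 1, 0] = _
      ext i j; fin_cases i <;> fin_cases j <;> simp [Matrix.mul_apply, Fin.sum_univ_two]
    obtain ⟨h10, -, -⟩ := entries_of_mk_eq_one h1
    rw [e0] at h10
    simp at h10
  have hcomm : ProjGenLinGroup.mk d * ProjGenLinGroup.mk w = ProjGenLinGroup.mk w * ProjGenLinGroup.mk d := by
    rw [← map_mul, ← map_mul, ProjGenLinGroup.mk_eq_mk_iff]
    refine ⟨-1, Units.ext ?_⟩
    ext i j
    fin_cases i <;> fin_cases j <;> simp [d, w, GeneralLinearGroup.mkOfDetNeZero, Matrix.mul_apply, Fin.sum_univ_two]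
  have hP : ∀ x : PG, x * x = 1 → IsPGroup 2 (Subgroup.zpowers x) := fun x hx => by
    rintro ⟨y, hy⟩
    obtain ⟨k, rfl⟩ := Subgroup.mem_zpowers_iff.1 hy
    refine ⟨1, Subtype.ext ?_⟩
    show (x ^ k) ^ 2 ^ 1 = 1
    rw [pow_one, pow_two, ← (Commute.refl x).mul_zpow, hx, _root_.one_zpow]
  have hnorm : Subgroup.zpowers (ProjGenLinGroup.mk d) ≤
      Subgroup.normalizer (Subgroup.zpowers (ProjGenLinGroup.mk w) : Set PG) := by
    refine le_trans ?_ (Subgroup.centralizer_le_normalizer _)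
    rw [Subgroup.zpowers_le, Subgroup.mem_centralizer_iff]
    rintro y hy
    obtain ⟨k, rfl⟩ := Subgroup.mem_zpowers_iff.1 (SetLike.mem_coe.1 hy)
    exact ((show Commute (ProjGenLinGroup.mk d) (ProjGenLinGroup.mk w) from hcomm).zpow_right k).eq.symm
  obtain ⟨R, hR⟩ := ((hP _ hd).to_sup_of_normal_right' (hP _ hw) hnorm).exists_le_sylow
  haveI : IsCyclic R := isCyclic_of_surjective (Sylow.equiv Q R).toMonoidHom (Sylow.equiv Q R).surjective
  have hdR : ProjGenLinGroup.mk d ∈ (R : Subgroup PG) := hR (Subgroup.mem_sup_left (Subgroup.mem_zpowers _))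
  have hwR : ProjGenLinGroup.mk w ∈ (R : Subgroup PG) := hR (Subgroup.mem_sup_right (Subgroup.mem_zpowers _))
  exact hne (CyclicTimesZ.eq_of_involutions (D := (R : Subgroup PG)) ‹IsCyclic R› hdR hwR hd hw hd1 hw1)

end

end CfsgLib.CyclicTimesZ
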